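import Groth.Agent.Pinch2.Pairs
import Groth.Agent.MorE57.Descent
import Mathlib.AlgebraicGeometry.Morphisms.Proper
import Mathlib.AlgebraicGeometry.Morphisms.FiniteType
import Mathlib.RingTheory.Adjoin.Tower
import Mathlib.RingTheory.FiniteType
import Mathlib.AlgebraicGeometry.Noetherian

/-!
# Ferrand pushouts over a base
-/

set_option autoImplicit false
set_option backward.isDefEq.respectTransparency.types false

universe u

open CategoryTheory CategoryTheory.Limits AlgebraicGeometry TopologicalSpace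

noncomputable section

namespace Groth.Agent.Pinch2

variable {X Y Z P' S : Scheme.{u}}

/-- A property stable under composition, local at the target and implied by finiteness is stable
under binary disjoint unions at the source. -/
lemma coprodDesc_of (Q : MorphismProperty Scheme.{u}) [IsZariskiLocalAtTarget Q] [Q.IsStableUnderComposition]
    (hQ : ∀ {W W' : Scheme.{u}} (f : W ⟶ W') [IsFinite f], Q f) {p : X ⟶ S} {q : Y ⟶ S} (hp : Q p) (hq : Q q) : Q (coprod.desc p q) := by
  have e : coprod.desc p q = coprod.map p q ≫ coprod.desc (𝟙 S) (𝟙 S) := by simp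
  rw [e]
  exact Q.comp_mem _ _ (IsZariskiLocalAtTarget.coprodMap p q hp hq) (hQ _)

lemma surjective_coprodDesc {a : X ⟶ P'} {b : Y ⟶ P'} (h : ∀ p, (∃ x, a x = p) ∨ ∃ y, b y = p) :
    Surjective (coprod.desc a b) := by
  refine ⟨fun p => ?_⟩
  rcases h p with ⟨x, rfl⟩ | ⟨y, rfl⟩
  · exact ⟨coprod.inl (C := Scheme) x, by rw [← Scheme.Hom.comp_apply, coprod.inl_desc]⟩
  · exact ⟨coprod.inr (C := Scheme) y, by rw [← Scheme.Hom.comp_apply, coprod.inr_desc]⟩

section Descent

variable {a : X ⟶ P'} {b : Y ⟶ P'} [IsIntegralHom a] [IsIntegralHom b]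
  (hab : ∀ p, (∃ x, a x = p) ∨ ∃ y, b y = p) {p : X ⟶ S} {q : Y ⟶ S} {r : P' ⟶ S}
  (hp : a ≫ r = p) (hq : b ≫ r = q)

include hab hp hq

lemma isSeparated_of_cover [IsSeparated p] [IsSeparated q] : IsSeparated r := by
  haveI := surjective_coprodDesc hab
  haveI : IsSeparated (coprod.desc p q) :=
    coprodDesc_of @IsSeparated (fun f _ => inferInstance) ‹_› ‹_›
  exact MorE57.isSeparated_of_surjective (coprod.desc p q) r (coprod.desc a b)
    (by rw [coprod.desc_comp, hp, hq])

lemma quasiSeparated_of_cover [QuasiSeparated p] [QuasiSeparated q] : QuasiSeparated r := by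
  haveI := surjective_coprodDesc hab
  haveI : QuasiSeparated (coprod.desc p q) :=
    coprodDesc_of @QuasiSeparated (fun f _ => inferInstance) ‹_› ‹_›
  refine (HasAffineProperty.eq_targetAffineLocally @QuasiSeparated).symm ▸ fun U => ?_
  show QuasiSeparatedSpace (r ⁻¹ᵁ U.1).toScheme
  haveI : QuasiSeparatedSpace (coprod.desc a b ⁻¹ᵁ (r ⁻¹ᵁ U.1)).toScheme := by
    rw [← Scheme.Hom.comp_preimage, coprod.desc_comp, hp, hq]
    haveI : IsAffine U.1.toScheme := U.2
    exact (HasAffineProperty.iff_of_isAffine (P := @QuasiSeparated)).1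
      (inferInstance : QuasiSeparated (coprod.desc p q ∣_ U.1))
  haveI : Surjective (coprod.desc a b ∣_ (r ⁻¹ᵁ U.1)) := IsZariskiLocalAtTarget.restrict (P := @Surjective) ‹_› _
  exact MorE57.quasiSeparatedSpace_of_surjective (coprod.desc a b ∣_ (r ⁻¹ᵁ U.1))

lemma universallyClosed_of_cover [UniversallyClosed p] [UniversallyClosed q] : UniversallyClosed r := by
  haveI := surjective_coprodDesc hab
  haveI : UniversallyClosed (coprod.desc a b ≫ r) := by
    rw [coprod.desc_comp, hp, hq]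
    exact coprodDesc_of @UniversallyClosed (fun f _ => inferInstance) ‹_› ‹_›
  exact UniversallyClosed.of_comp_surjective (coprod.desc a b) r

lemma quasiCompact_of_cover [QuasiCompact p] [QuasiCompact q] : QuasiCompact r := by
  haveI := surjective_coprodDesc hab
  haveI : QuasiCompact (coprod.desc a b ≫ r) := by
    rw [coprod.desc_comp, hp, hq]
    exact coprodDesc_of @QuasiCompact (fun f _ => inferInstance) ‹_› ‹_›
  refine ⟨fun U hU hUc => ?_⟩
  have h := (QuasiCompact.isCompact_preimage (f := coprod.desc a b ≫ r) U hU hUc).image (coprod.desc a b).continuous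
  rwa [Scheme.Hom.comp_base, TopCat.coe_comp, Set.preimage_comp, Set.image_preimage_eq _ (coprod.desc a b).surjective] at h

end Descent

/-- Finite type descends to a fibre product ring along a Noetherian base (Artin–Tate). -/
lemma finiteType_fib {A B C R₀ : Type u} [CommRing A] [CommRing B] [CommRing C] [CommRing R₀] [IsNoetherianRing R₀]
    {f : A →+* C} {g : B →+* C} (hf : Function.Surjective f) (hg : g.Finite) (ψ : R₀ →+* fib f g)
    (hA : ((p₁ f g).comp ψ).FiniteType) (hB : ((p₂ f g).comp ψ).FiniteType) : ψ.FiniteType := by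
  letI := ψ.toAlgebra
  letI := ((p₁ f g).comp ψ).toAlgebra
  letI := ((p₂ f g).comp ψ).toAlgebra
  letI := (p₁ f g).toAlgebra
  letI := (p₂ f g).toAlgebra
  haveI : IsScalarTower R₀ (fib f g) A := IsScalarTower.of_algebraMap_eq fun _ => rfl
  haveI : IsScalarTower R₀ (fib f g) B := IsScalarTower.of_algebraMap_eq fun _ => rfl
  haveI : Algebra.FiniteType R₀ A := hA
  haveI : Algebra.FiniteType R₀ B := hB
  haveI : Module.Finite (fib f g) A := p₁_finite hf hg
  haveI : Module.Finite (fib f g) B := RingHom.Finite.of_surjective (p₂ f g) (p₂_surjective hf)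
  exact ⟨fg_of_fg_of_fg R₀ (fib f g) (A × B) Algebra.FiniteType.out Module.Finite.fg_top
    fun r s h => fib_ext (congrArg Prod.fst h) (congrArg Prod.snd h)⟩

variable {i : Z ⟶ X} {j : Z ⟶ Y} [IsClosedImmersion i]

theorem locallyOfFiniteType_P (H : HasPairs i j) [IsFinite j] [IsLocallyNoetherian S]
    (r : P i j ⟶ S) [LocallyOfFiniteType (aMap H ≫ r)] [LocallyOfFiniteType (bMap H ≫ r)] :
    LocallyOfFiniteType r := by
  let K := {σU : Pair i j × S.affineOpens // ∀ t, r (incl σU.1 t) ∈ σU.2.1}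
  have hcov : ∀ p : P i j, ∃ k : K, p ∈ (incl k.1.1).opensRange := by
    intro p
    obtain ⟨π, q, rfl⟩ := exists_incl p
    obtain ⟨U, hU, hqU, -⟩ := exists_isAffineOpen_mem_and_subset (x := r (incl π q)) (U := (⊤ : S.Opens)) trivial
    obtain ⟨e, he, heU, heV⟩ := π.exists_basic (U₀ := aMap H ⁻¹ᵁ (r ⁻¹ᵁ U)) (V₀ := bMap H ⁻¹ᵁ (r ⁻¹ᵁ U))
      (by rw [← Scheme.Hom.comp_preimage i, ← Scheme.Hom.comp_preimage j, w H]) (p := q) (by
        rcases π.exists_over q with ⟨x, hx, -⟩ | ⟨y, hy, -⟩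
        · exact Or.inl ⟨x, hx, by
            show r (aMap H (π.hU.fromSpec x)) ∈ U
            rw [aMap_fromSpec_apply, hx]; exact hqU⟩
        · exact Or.inr ⟨y, hy, by
            show r (bMap H (π.hV.fromSpec y)) ∈ U
            rw [bMap_fromSpec_apply, hy]; exact hqU⟩)
    refine ⟨⟨(π.restrict e, ⟨U, hU⟩), fun t => ?_⟩, ?_⟩
    · rcases (π.restrict e).exists_over t with ⟨x, rfl, hxU⟩ | ⟨y, rfl, hyV⟩
      · rw [← aMap_fromSpec_apply H]; exact heU hxU
      · rw [← bMap_fromSpec_apply H]; exact heV hyV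
    · obtain ⟨v, hv⟩ := (π.mem_range_restrict e q).2 he
      exact ⟨v, by rw [← hv, ← Scheme.Hom.comp_apply, chartMap_incl]⟩
  refine IsZariskiLocalAtSource.of_iSup_eq_top (fun k : K => (incl k.1.1).opensRange)
    (eq_top_iff.2 fun p _ => Opens.mem_iSup.2 (hcov p)) fun k => ?_
  rw [← MorphismProperty.cancel_left_of_respectsIso @LocallyOfFiniteType (incl k.1.1).isoOpensRange.hom,
    Scheme.Hom.isoOpensRange_hom_ι_assoc]
  obtain ⟨⟨σ, U, hU⟩, hmem⟩ := k
  have hr : Set.range (incl σ ≫ r) ⊆ Set.range hU.fromSpec := by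
    rintro _ ⟨t, rfl⟩; rw [hU.range_fromSpec]; exact hmem t
  obtain ⟨ψ, hψ⟩ : ∃ ψ, Spec.map ψ = IsOpenImmersion.lift hU.fromSpec (incl σ ≫ r) hr := ⟨_, Spec.map_preimage _⟩
  haveI : IsNoetherianRing Γ(S, U) := IsLocallyNoetherian.component_noetherian ⟨U, hU⟩
  have e : incl σ ≫ r = Spec.map ψ ≫ hU.fromSpec := by rw [hψ, IsOpenImmersion.lift_fac]
  show LocallyOfFiniteType (incl σ ≫ r)
  have hA : ((p₁ σ.fA σ.gB).comp ψ.hom).FiniteType := by
    haveI : LocallyOfFiniteType ((σ.sA ≫ Spec.map ψ) ≫ hU.fromSpec) := by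
      rw [Category.assoc, ← e, ← fromSpec_aMap_assoc H]; infer_instance
    haveI := locallyOfFiniteType_of_comp (σ.sA ≫ Spec.map ψ) hU.fromSpec
    rw [← Spec.map_comp] at this
    exact (HasRingHomProperty.Spec_iff (P := @LocallyOfFiniteType)).1 this
  have hB : ((p₂ σ.fA σ.gB).comp ψ.hom).FiniteType := by
    haveI : LocallyOfFiniteType ((σ.sB ≫ Spec.map ψ) ≫ hU.fromSpec) := by
      rw [Category.assoc, ← e, ← fromSpec_bMap_assoc H]; infer_instance
    haveI := locallyOfFiniteType_of_comp (σ.sB ≫ Spec.map ψ) hU.fromSpec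
    rw [← Spec.map_comp] at this
    exact (HasRingHomProperty.Spec_iff (P := @LocallyOfFiniteType)).1 this
  haveI : LocallyOfFiniteType (Spec.map ψ) := (HasRingHomProperty.Spec_iff (P := @LocallyOfFiniteType)).2
    (finiteType_fib σ.fA_surjective
      ((IsFinite.SpecMap_iff _).1 (MorphismProperty.of_isPullback (P := @IsFinite) (isPullback_gB σ).flip ‹_›))
      ψ.hom hA hB)
  rw [e]; infer_instance

section Transfer

variable {a : X ⟶ P'} {b : Y ⟶ P'} (H : HasPairs i j) (hP : IsPushout i j a b)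
include H hP

lemma jointly_surjective' (p : P') : (∃ x, a x = p) ∨ ∃ y, b y = p := by
  obtain ⟨e, rfl, rfl⟩ := exists_iso H hP
  obtain ⟨p, rfl⟩ := e.hom.surjective p
  exact (jointly_surjective H p).imp (fun ⟨x, hx⟩ => ⟨x, by rw [Scheme.Hom.comp_apply, hx]⟩)
    fun ⟨y, hy⟩ => ⟨y, by rw [Scheme.Hom.comp_apply, hy]⟩

lemma isClosedImmersion_inr : IsClosedImmersion b := by
  obtain ⟨e, -, rfl⟩ := exists_iso H hP
  haveI := isClosedImmersion_bMap H
  infer_instance

lemma isIntegralHom_inl [IsIntegralHom j] : IsIntegralHom a := by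
  obtain ⟨e, rfl, -⟩ := exists_iso H hP
  haveI := isIntegralHom_aMap H
  infer_instance

theorem locallyOfFiniteType_of_pushout [IsFinite j] [IsLocallyNoetherian S] {r : P' ⟶ S}
    [LocallyOfFiniteType (a ≫ r)] [LocallyOfFiniteType (b ≫ r)] : LocallyOfFiniteType r := by
  obtain ⟨e, rfl, rfl⟩ := exists_iso H hP
  haveI : LocallyOfFiniteType (aMap H ≫ e.hom ≫ r) := by rwa [← Category.assoc]
  haveI : LocallyOfFiniteType (bMap H ≫ e.hom ≫ r) := by rwa [← Category.assoc]
  exact (MorphismProperty.cancel_left_of_respectsIso @LocallyOfFiniteType e.hom r).1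
    (locallyOfFiniteType_P H (e.hom ≫ r))

end Transfer

end Groth.Agent.Pinch2
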