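import Groth.Agent.Pinch2.Exists
import Groth.Agent.VarGal.Thickening
import Mathlib.RingTheory.QuasiFinite.Basic
import Mathlib.RingTheory.Ideal.GoingUp
import Mathlib.RingTheory.Adjoin.Tower

/-!
# Standard situations in which pairs of affine opens cover
-/

set_option autoImplicit false
set_option backward.isDefEq.respectTransparency.types false

universe u

open CategoryTheory CategoryTheory.Limits AlgebraicGeometry TopologicalSpace

noncomputable section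

namespace Groth.Agent.Pinch2

variable {X Y Z : Scheme.{u}} {i : Z ⟶ X} {j : Z ⟶ Y} [IsClosedImmersion i]

/-- An open of `Y` whose preimage is empty gives a pair. -/
theorem exists_pair_of_notMem_closure {y : Y} (hy : y ∉ closure (Set.range j)) : ∃ π : Pair i j, y ∈ π.V := by
  obtain ⟨V, hV, hyV, hle⟩ := exists_isAffineOpen_mem_and_subset (x := y)
    (U := (⟨(closure (Set.range j))ᶜ, isClosed_closure.isOpen_compl⟩ : Y.Opens)) hy
  refine ⟨⟨⊥, V, isAffineOpen_bot X, hV, ?_⟩, hyV⟩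
  ext z
  exact ⟨False.elim, fun hz => hle hz (subset_closure ⟨z, rfl⟩)⟩

/-- Two closed immersions. -/
theorem hasPairs_closedImmersion [IsClosedImmersion j] : HasPairs i j := by
  refine hasPairs_of_forall fun y => ?_
  by_cases hy : y ∈ Set.range j
  swap
  · exact exists_pair_of_notMem_closure (by rwa [j.isClosedEmbedding.isClosed_range.closure_eq])
  obtain ⟨z, rfl⟩ := hy
  obtain ⟨U, hU, hzU, -⟩ := exists_isAffineOpen_mem_and_subset (x := i z) (U := (⊤ : X.Opens)) trivial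
  obtain ⟨V, hV, hzV, -⟩ := exists_isAffineOpen_mem_and_subset (x := j z) (U := (⊤ : Y.Opens)) trivial
  obtain ⟨c, d, hcd, hzc⟩ := exists_basicOpen_le_affine_inter (hU.preimage i) (hV.preimage j) z ⟨hzU, hzV⟩
  obtain ⟨a, ha⟩ := i.app_surjective U hU c
  obtain ⟨b, hb⟩ := j.app_surjective V hV d
  refine ⟨⟨X.basicOpen a, Y.basicOpen b, hU.basicOpen a, hV.basicOpen b, ?_⟩, ?_⟩
  · rw [Scheme.preimage_basicOpen, Scheme.preimage_basicOpen, ha, hb, hcd]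
  · show z ∈ j ⁻¹ᵁ Y.basicOpen b
    rwa [Scheme.preimage_basicOpen, hb, ← hcd]

/-- A thickening and an affine morphism. -/
theorem hasPairs_thickening [Surjective i] [IsAffineHom j] : HasPairs i j := by
  refine hasPairs_of_forall fun y => ?_
  obtain ⟨V, hV, hyV, -⟩ := exists_isAffineOpen_mem_and_subset (x := y) (U := (⊤ : Y.Opens)) trivial
  obtain ⟨U, hU⟩ : ∃ U : X.Opens, i ⁻¹ᵁ U = j ⁻¹ᵁ V := by
    obtain ⟨O, hO, he⟩ := i.isClosedEmbedding.isInducing.isOpen_iff.1 (j ⁻¹ᵁ V).2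
    exact ⟨⟨O, hO⟩, Opens.ext he⟩
  have hW : IsAffineOpen (i ⁻¹ᵁ U) := hU ▸ hV.preimage j
  haveI : Surjective (i ∣_ U) := IsZariskiLocalAtTarget.restrict (P := @Surjective) ‹_› U
  haveI : IsClosedImmersion (i ∣_ U) := IsZariskiLocalAtTarget.restrict (P := @IsClosedImmersion) ‹_› U
  haveI : IsAffine (i ⁻¹ᵁ U).toScheme := hW
  have hUa : IsAffineOpen U := Groth.Agent.VarGal.isAffine_of_thickening (i ∣_ U)
  exact ⟨⟨U, V, hUa, hV, hU⟩, hyV⟩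

/-- A closed immersion and an integral morphism whose fibres are contained in affine opens. -/
theorem hasPairs_integral [IsIntegralHom j]
    (haff : ∀ y : Y, ∃ U : X.Opens, IsAffineOpen U ∧ j ⁻¹' {y} ⊆ i ⁻¹' (U : Set X)) : HasPairs i j := by
  refine hasPairs_of_forall fun y => ?_
  obtain ⟨U, hU, hfib⟩ := haff y
  have hclosed : IsClosedMap j := j.isClosedMap
  let N : Y.Opens := ⟨(j '' (i ⁻¹ᵁ U : Set Z)ᶜ)ᶜ, (hclosed _ (i ⁻¹ᵁ U).2.isClosed_compl).isOpen_compl⟩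
  have hyN : y ∈ N := by
    rintro ⟨z, hz, hzy⟩
    exact hz (hfib hzy)
  obtain ⟨V, hV, hyV, hVN⟩ := exists_isAffineOpen_mem_and_subset (x := y) (U := N) hyN
  have hWU : j ⁻¹ᵁ V ≤ i ⁻¹ᵁ U := fun z hz => by_contra fun h => hVN hz ⟨z, h, rfl⟩
  have hA : IsAffineOpen (i ⁻¹ᵁ U) := hU.preimage i
  have hW : IsAffineOpen (j ⁻¹ᵁ V) := hV.preimage j
  let ρ := (Z.presheaf.map (homOfLE hWU).op).hom
  let g : Γ(Y, V) →+* Γ(Z, j ⁻¹ᵁ V) := (j.app V).hom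
  have hg : g.IsIntegral := IsIntegralHom.isIntegral_app j V hV
  -- the closed complement of `j⁻¹V` in `i⁻¹U`
  let F : Set (PrimeSpectrum Γ(Z, i ⁻¹ᵁ U)) := hA.fromSpec ⁻¹' ((j ⁻¹ᵁ V : Z.Opens) : Set Z)ᶜ
  have hF : IsClosed F := (j ⁻¹ᵁ V).2.isClosed_compl.preimage hA.fromSpec.continuous
  obtain ⟨J, hJ⟩ := (PrimeSpectrum.isClosed_iff_zeroLocus_ideal F).1 hF
  have hfrom : ∀ c : Spec Γ(Z, j ⁻¹ᵁ V), hA.fromSpec (Spec.map (Z.presheaf.map (homOfLE hWU).op) c) = hW.fromSpec c :=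
    fun c => by rw [← Scheme.Hom.comp_apply, hA.map_fromSpec hW]
  have hJtop : J.map ρ = ⊤ := by
    by_contra h
    obtain ⟨Q, hQ, hJQ⟩ := Ideal.exists_le_maximal _ h
    have hmem : (Spec.map (Z.presheaf.map (homOfLE hWU).op) (⟨Q, hQ.isPrime⟩ : PrimeSpectrum _)) ∈ F := by
      rw [hJ]
      exact fun x hx => hJQ (Ideal.mem_map_of_mem ρ hx)
    exact hmem (by rw [hfrom]; exact hW.range_fromSpec.le ⟨_, rfl⟩)
  obtain ⟨n, t, c, hsum⟩ : ∃ (n : ℕ) (t : Fin n → Γ(Z, i ⁻¹ᵁ U)) (c : Fin n → Γ(Z, j ⁻¹ᵁ V)),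
      (∀ k, t k ∈ J) ∧ ∑ k, c k * ρ (t k) = 1 := by
    have h1 : (1 : Γ(Z, j ⁻¹ᵁ V)) ∈ Submodule.span Γ(Z, j ⁻¹ᵁ V) (ρ '' (J : Set _)) := by
      show (1 : Γ(Z, j ⁻¹ᵁ V)) ∈ J.map ρ
      rw [hJtop]; trivial
    obtain ⟨n, c, t', hs⟩ := Submodule.mem_span_set'.1 h1
    choose t ht using fun k => (t' k).2
    refine ⟨n, t, c, fun k => (ht k).1, ?_⟩
    simp only [(ht _).2]
    simpa only [smul_eq_mul] using hs
  -- the finitely many relevant primes of the subring generated by the `t k`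
  let S : Subalgebra ℤ Γ(Z, i ⁻¹ᵁ U) := Algebra.adjoin ℤ (Set.range t)
  obtain ⟨q, hq⟩ : y ∈ Set.range hV.fromSpec := hV.range_fromSpec.symm ▸ hyV
  letI := g.toAlgebra
  haveI : Algebra.IsIntegral Γ(Y, V) Γ(Z, j ⁻¹ᵁ V) := ⟨hg⟩
  let C₀ : Subalgebra Γ(Y, V) Γ(Z, j ⁻¹ᵁ V) := Algebra.adjoin Γ(Y, V) (Set.range (fun k => ρ (t k)))
  haveI : Module.Finite Γ(Y, V) C₀ := Module.Finite.iff_fg.2
    (fg_adjoin_of_finite (Set.finite_range _) fun x _ => Algebra.IsIntegral.isIntegral x)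
  have hmap : ∀ s : S, ρ s.1 ∈ C₀ := by
    rintro ⟨s, hs⟩
    induction hs using Algebra.adjoin_induction with
    | mem x hx =>
      obtain ⟨k, rfl⟩ := hx
      exact Algebra.subset_adjoin ⟨k, rfl⟩
    | algebraMap r => simp
    | add x y _ _ hx hy => rw [map_add]; exact add_mem hx hy
    | mul x y _ _ hx hy => rw [map_mul]; exact mul_mem hx hy
  let θ : S →+* C₀ := (ρ.comp S.toSubring.subtype).codRestrict C₀ hmap
  let bad : Set (Ideal S) := (fun Q : Ideal C₀ => Q.comap θ) '' q.asIdeal.primesOver C₀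
  have hbad : bad.Finite := (Algebra.QuasiFinite.finite_primesOver (R := Γ(Y, V)) (S := C₀) q.asIdeal).image _
  let I : Ideal S := Ideal.span (Set.range fun k => (⟨t k, Algebra.subset_adjoin ⟨k, rfl⟩⟩ : S))
  haveI : Algebra.IsIntegral C₀ Γ(Z, j ⁻¹ᵁ V) := Algebra.IsIntegral.tower_top Γ(Y, V)
  obtain ⟨f, hfI, hfbad⟩ : ∃ f ∈ I, ∀ P ∈ bad, f ∉ P := by
    by_contra hcon
    push Not at hcon
    have hcov : (I : Set S) ⊆ ⋃ P ∈ bad, (P : Set S) := fun f hf => by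
      obtain ⟨P, hP, hfP⟩ := hcon f hf
      exact Set.mem_biUnion hP hfP
    obtain ⟨P, hP, hIP⟩ := (Ideal.subset_union_prime_finite hbad ⊤ ⊤ (fun P hP _ _ => by
      obtain ⟨Q, hQ, rfl⟩ := hP
      haveI := hQ.1
      exact Ideal.comap_isPrime _ _)).1 hcov
    obtain ⟨Q, hQ, rfl⟩ := hP
    haveI := hQ.1
    obtain ⟨Q', -, hQ', hQ'c⟩ := Ideal.exists_ideal_over_prime_of_isIntegral (R := C₀) (S := Γ(Z, j ⁻¹ᵁ V)) Q ⊥ (by
      rw [← RingHom.ker_eq_comap_bot, (RingHom.injective_iff_ker_eq_bot _).1 Subtype.val_injective]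
      exact bot_le)
    refine hQ'.ne_top ((Ideal.eq_top_iff_one _).2 ?_)
    rw [← hsum.2]
    refine Ideal.sum_mem _ fun k _ => Ideal.mul_mem_left _ _ ?_
    have : θ ⟨t k, Algebra.subset_adjoin ⟨k, rfl⟩⟩ ∈ Q := hIP (Ideal.subset_span ⟨k, rfl⟩)
    rw [← hQ'c] at this
    exact this
  have hfJ : f.1 ∈ J := by
    refine (Ideal.span_le (I := J.comap S.toSubring.subtype)).2 ?_ hfI
    rintro _ ⟨k, rfl⟩
    exact hsum.1 k
  have hfy : ∀ z : Z, j z = y → z ∈ Z.basicOpen f.1 := by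
    intro z hz
    obtain ⟨w, rfl⟩ : z ∈ Set.range hW.fromSpec := hW.range_fromSpec.symm ▸ (show j z ∈ V from hz ▸ hyV)
    let w' : PrimeSpectrum Γ(Z, i ⁻¹ᵁ U) := Spec.map (Z.presheaf.map (homOfLE hWU).op) w
    show w ∈ hW.fromSpec ⁻¹ᵁ Z.basicOpen f.1
    have hw : w' ∈ hA.fromSpec ⁻¹ᵁ Z.basicOpen f.1 := by
      rw [hA.fromSpec_preimage_basicOpen]
      show f.1 ∉ w'.asIdeal
      intro hmem
      refine hfbad _ ⟨w.asIdeal.comap (algebraMap C₀ Γ(Z, j ⁻¹ᵁ V)), ⟨Ideal.comap_isPrime _ _, ⟨?_⟩⟩, rfl⟩ hmem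
      have e : Spec.map (j.app V) w = q := hV.fromSpec.isOpenEmbedding.injective (by
        rw [Scheme.Hom.app_eq_appLE, ← Scheme.Hom.comp_apply, hV.SpecMap_appLE_fromSpec j hW, Scheme.Hom.comp_apply, hz, hq])
      rw [← e]
      ext b
      rfl
    have := hw
    rwa [show (w ∈ hW.fromSpec ⁻¹ᵁ Z.basicOpen f.1) = (hW.fromSpec w ∈ Z.basicOpen f.1) from rfl, ← hfrom w]
  have hfW : Z.basicOpen f.1 ≤ j ⁻¹ᵁ V := by
    intro z hz
    obtain ⟨w, rfl⟩ : z ∈ Set.range hA.fromSpec := hA.range_fromSpec.symm ▸ Z.basicOpen_le _ hz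
    by_contra h
    have hwF : w ∈ F := h
    rw [hJ] at hwF
    have h1 : w ∈ hA.fromSpec ⁻¹ᵁ Z.basicOpen f.1 := hz
    rw [hA.fromSpec_preimage_basicOpen] at h1
    exact h1 (hwF hfJ)
  let N' : Y.Opens := ⟨(j '' (Z.basicOpen f.1 : Set Z)ᶜ)ᶜ, (hclosed _ (Z.basicOpen f.1).2.isClosed_compl).isOpen_compl⟩
  have hyN' : y ∈ V ⊓ N' := ⟨hyV, by rintro ⟨z, hz, hzy⟩; exact hz (hfy z hzy)⟩
  obtain ⟨b, hbN, hyb⟩ := hV.exists_basicOpen_le (V := N') ⟨y, hyN'.2⟩ hyV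
  have hsub : j ⁻¹ᵁ Y.basicOpen b ≤ Z.basicOpen f.1 := fun z hz => by_contra fun h => hbN hz ⟨z, h, rfl⟩
  letI := (Z.presheaf.map (homOfLE (Z.basicOpen_le f.1)).op).hom.toAlgebra
  haveI := hA.isLocalization_basicOpen f.1
  obtain ⟨m, c', hc'⟩ := IsLocalization.Away.surj f.1
    (Z.presheaf.map (homOfLE hfW).op (j.app V b) : Γ(Z, Z.basicOpen f.1))
  have hfu : IsUnit (algebraMap Γ(Z, i ⁻¹ᵁ U) Γ(Z, Z.basicOpen f.1) f.1) := IsLocalization.Away.algebraMap_isUnit _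
  have key : Z.basicOpen (f.1 * c') = j ⁻¹ᵁ Y.basicOpen b := by
    have e1 : Z.basicOpen (algebraMap Γ(Z, i ⁻¹ᵁ U) Γ(Z, Z.basicOpen f.1) c') =
        Z.basicOpen f.1 ⊓ Z.basicOpen c' := Z.basicOpen_res _ _
    have e2 : Z.basicOpen (Z.presheaf.map (homOfLE hfW).op (j.app V b)) = j ⁻¹ᵁ Y.basicOpen b := by
      rw [Scheme.basicOpen_res, ← Scheme.preimage_basicOpen]
      exact inf_eq_right.2 hsub
    rw [← hc', Scheme.basicOpen_mul, e2, Scheme.basicOpen_of_isUnit _ (hfu.pow m)] at e1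
    rw [Scheme.basicOpen_mul, ← e1]
    exact inf_eq_left.2 hsub
  obtain ⟨a, ha⟩ := i.app_surjective U hU (f.1 * c')
  refine ⟨⟨X.basicOpen a, Y.basicOpen b, hU.basicOpen a, hV.basicOpen b, ?_⟩, hyb⟩
  rw [Scheme.preimage_basicOpen, ha, key]

end Groth.Agent.Pinch2

namespace Groth.Agent.Pinch2

open CategoryTheory AlgebraicGeometry in
/-- Standard pinching data give pairs. -/
theorem hasPairs_affine_local {X Y T Z : Scheme.{u}} (f : X ⟶ Y) (t : T ⟶ Y) (ξ : Z ⟶ T) (ι : Z ⟶ X)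
    [IsAffineHom t] [IsClosedImmersion ι] (hsq : ι ≫ f = ξ ≫ t)
    (hstd : ∀ y : Y, ∃ U : Y.Opens, IsAffineOpen U ∧ y ∈ U ∧ ∃ V : X.Opens, IsAffineOpen V ∧
      V ≤ f ⁻¹ᵁ U ∧ ∀ z : Z, (ξ ≫ t).base z ∈ U → ι.base z ∈ V) : HasPairs ι ξ := by
  refine hasPairs_of_forall fun τ => ?_
  obtain ⟨U, hU, hτ, V, hV, hVle, hZ⟩ := hstd (t τ)
  refine ⟨⟨V, t ⁻¹ᵁ U, hV, hU.preimage t, ?_⟩, hτ⟩
  ext z
  constructor
  · intro hz
    show t (ξ z) ∈ U
    rw [← Scheme.Hom.comp_apply, ← hsq, Scheme.Hom.comp_apply]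
    exact hVle hz
  · intro hz
    exact hZ z hz

end Groth.Agent.Pinch2
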