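import Groth.Agent.Pinch2.Props

/-!
# Existence of Ferrand pushouts
-/

set_option autoImplicit false
set_option backward.isDefEq.respectTransparency.types false

universe u

open CategoryTheory CategoryTheory.Limits AlgebraicGeometry TopologicalSpace

noncomputable section

namespace Groth.Agent.Pinch2

variable {X Y Z : Scheme.{u}} {i : Z ⟶ X} {j : Z ⟶ Y} [IsClosedImmersion i]

/-- It is enough that pairs cover `Y`. -/
theorem hasPairs_of_forall (h : ∀ y : Y, ∃ π : Pair i j, y ∈ π.V) : HasPairs i j := by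
  refine ⟨fun x => ?_, h⟩
  by_cases hx : x ∈ Set.range i
  · obtain ⟨z, rfl⟩ := hx
    obtain ⟨π, hπ⟩ := h (j z)
    exact ⟨π, show z ∈ i ⁻¹ᵁ π.U from π.hW.symm ▸ (hπ : z ∈ j ⁻¹ᵁ π.V)⟩
  · obtain ⟨U, hU, hxU, hle⟩ := exists_isAffineOpen_mem_and_subset (x := x)
      (U := (⟨(Set.range i)ᶜ, i.isClosedEmbedding.isClosed_range.isOpen_compl⟩ : X.Opens)) hx
    refine ⟨⟨U, ⊥, hU, isAffineOpen_bot Y, ?_⟩, hxU⟩
    ext z
    exact ⟨fun hz => (hle hz ⟨z, rfl⟩).elim, False.elim⟩

/-- Existence of the pushout with its basic properties. -/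
theorem exists_pushout (H : HasPairs i j) :
    ∃ (P : Scheme.{u}) (a : X ⟶ P) (b : Y ⟶ P), IsPushout i j a b ∧ IsPullback i j a b ∧
      IsClosedImmersion b ∧ IsAffineHom a :=
  ⟨P i j, aMap H, bMap H, isPushout H, isPullback H, isClosedImmersion_bMap H, isAffineHom_aMap H⟩

/-- Any pushout is isomorphic to the constructed one. -/
theorem exists_iso (H : HasPairs i j) {P' : Scheme.{u}} {a : X ⟶ P'} {b : Y ⟶ P'} (hP : IsPushout i j a b) :
    ∃ e : P i j ≅ P', aMap H ≫ e.hom = a ∧ bMap H ≫ e.hom = b :=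
  ⟨(isPushout H).isoIsPushout _ _ hP, IsPushout.inl_isoIsPushout_hom _ _ _ _, IsPushout.inr_isoIsPushout_hom _ _ _ _⟩

/-- Around every point of a pushout there is an affine open with affine preimages. -/
theorem exists_chart_mem (H : HasPairs i j) (p : P i j) :
    ∃ π : Pair i j, p ∈ (incl π).opensRange :=
  let ⟨π, q, hq⟩ := exists_incl p
  ⟨π, q, hq⟩

end Groth.Agent.Pinch2
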