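import Groth.Agent.Pinch2.Milnor
import Groth.Agent.MP99.Basic
import Groth.Agent.CAlg7.FlatLimit

/-!
# Powers of an invertible ideal along a Ferrand pushout
-/

set_option autoImplicit false
set_option linter.style.haveILetI false
set_option backward.isDefEq.respectTransparency.types false

universe u

open CategoryTheory CategoryTheory.Limits AlgebraicGeometry TopologicalSpace

noncomputable section

namespace Groth.Agent.Pinch2

/-- A flat ring map sends non-zero-divisors to non-zero-divisors. -/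
lemma map_mem_nonZeroDivisors {R S : Type u} [CommRing R] [CommRing S] {φ : R →+* S} (hφ : φ.Flat) {t : R}
    (ht : t ∈ nonZeroDivisors R) : φ t ∈ nonZeroDivisors S := by
  letI := φ.toAlgebra
  haveI : Module.Flat R S := hφ
  have h : IsSMulRegular S t :=
    (isRegular_iff_mem_nonZeroDivisors.mpr ht).left.isSMulRegular.of_flat
  rw [mem_nonZeroDivisors_iff_left]
  intro x hx
  exact h (show t • x = t • (0 : S) by rw [smul_zero, Algebra.smul_def, RingHom.algebraMap_toAlgebra, hx])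

/-- Near a point inside a given open, an effective Cartier ideal has a regular generator. -/
lemma exists_affine_generator {X : Scheme.{u}} {I : X.IdealSheafData} (hI : BlowUp.IsEffCartierIdeal I) {x : X}
    {O : X.Opens} (hx : x ∈ O) :
    ∃ U : X.affineOpens, x ∈ U.1 ∧ U.1 ≤ O ∧ ∃ f, f ∈ nonZeroDivisors Γ(X, U.1) ∧ I.ideal U = Ideal.span {f} := by
  obtain ⟨U, hxU, f, hf, hIU⟩ := hI x
  obtain ⟨W, hW, hxW, hle⟩ := exists_isAffineOpen_mem_and_subset (x := x) (U := U.1 ⊓ O) ⟨hxU, hx⟩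
  have hWU : W ≤ U.1 := fun y hy => (hle hy).1
  refine ⟨⟨W, hW⟩, hxW, fun y hy => (hle hy).2, X.presheaf.map (homOfLE hWU).op f, ?_, ?_⟩
  · have hfl := flat_appLE (𝟙 X) U.2 hW (e := hWU)
    simp only [Scheme.Hom.appLE, Scheme.Hom.id_app, Category.id_comp] at hfl
    exact map_mem_nonZeroDivisors hfl hf
  · rw [← I.map_ideal (U := ⟨W, hW⟩) (V := U) hWU, hIU, Ideal.map_span, Set.image_singleton]
    rfl

/-- The quotient by a power of a regular element is flat if the quotient by the element is. -/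
lemma flat_quotient_pow {R₀ A : Type u} [CommRing R₀] [CommRing A] [Algebra R₀ A] {t : A} (ht : t ∈ nonZeroDivisors A)
    (h₁ : Module.Flat R₀ (A ⧸ Ideal.span {t})) : ∀ n : ℕ, Module.Flat R₀ (A ⧸ Ideal.span {t ^ n})
  | 0 => by
    haveI : Subsingleton (A ⧸ Ideal.span {t ^ 0}) := Ideal.Quotient.subsingleton_iff.2 (by simp)
    exact Module.Flat.of_linearEquiv (LinearEquiv.ofSubsingleton _ PUnit.{u+1})
  | n + 1 => by
    haveI := flat_quotient_pow ht h₁ n
    haveI := h₁
    let f : (A ⧸ Ideal.span {t ^ n}) →ₗ[R₀] A ⧸ Ideal.span {t ^ (n + 1)} :=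
      (Submodule.mapQ (Ideal.span {t ^ n}) (Ideal.span {t ^ (n + 1)}) (LinearMap.mulLeft A t)
        (Ideal.span_le.2 (by
          rintro _ rfl
          show t * t ^ n ∈ Ideal.span {t ^ (n + 1)}
          rw [← pow_succ']; exact Ideal.mem_span_singleton_self _))).restrictScalars R₀
    let g : (A ⧸ Ideal.span {t ^ (n + 1)}) →ₗ[R₀] A ⧸ Ideal.span {t} :=
      (Ideal.Quotient.factorₐ R₀ (Ideal.span_singleton_le_span_singleton.2 (dvd_pow_self t n.succ_ne_zero))).toLinearMap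
    refine CAlg7.flat_of_exact f g ?_ ?_ ?_
    · rw [injective_iff_map_eq_zero]
      intro x hx
      obtain ⟨a, rfl⟩ := Ideal.Quotient.mk_surjective x
      have hx' : Ideal.Quotient.mk (Ideal.span {t ^ (n + 1)}) (t * a) = 0 := hx
      rw [Ideal.Quotient.eq_zero_iff_mem, Ideal.mem_span_singleton] at hx' ⊢
      obtain ⟨c, hc⟩ := hx'
      refine ⟨c, sub_eq_zero.1 ((mem_nonZeroDivisors_iff_left.1 ht) _ ?_)⟩
      rw [mul_sub, hc, pow_succ']; ring
    · intro y
      obtain ⟨a, rfl⟩ := Ideal.Quotient.mk_surjective y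
      exact ⟨Ideal.Quotient.mk _ a, rfl⟩
    · intro y
      obtain ⟨a, rfl⟩ := Ideal.Quotient.mk_surjective y
      refine ⟨fun hy => ?_, ?_⟩
      · have hy' : Ideal.Quotient.mk (Ideal.span {t}) a = 0 := hy
        rw [Ideal.Quotient.eq_zero_iff_mem, Ideal.mem_span_singleton] at hy'
        obtain ⟨c, rfl⟩ := hy'
        exact ⟨Ideal.Quotient.mk _ c, rfl⟩
      · rintro ⟨x, hx⟩
        obtain ⟨c, rfl⟩ := Ideal.Quotient.mk_surjective x
        rw [← hx]
        show Ideal.Quotient.mk (Ideal.span {t}) (t * c) = 0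
        rw [Ideal.Quotient.eq_zero_iff_mem]
        exact Ideal.mul_mem_right _ _ (Ideal.mem_span_singleton_self t)

section Fib

variable {R A B C : CommRingCat.{u}} {φa : R ⟶ A} {φb : R ⟶ B} {f : A ⟶ C} {g : B ⟶ C}

lemma FibProp.map_ker (hw : φa ≫ f = φb ≫ g) (h : FibProp φa φb f g) :
    (RingHom.ker φb.hom).map φa.hom = RingHom.ker f.hom := by
  refine le_antisymm (Ideal.map_le_iff_le_comap.2 fun k hk => ?_) fun y hy => ?_
  · show f (φa k) = 0
    rw [← CommRingCat.comp_apply, hw, CommRingCat.comp_apply, RingHom.mem_ker.1 hk, map_zero]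
  · obtain ⟨k, hk₁, hk₂⟩ := h.2 y 0 (by rw [map_zero]; exact hy)
    rw [← hk₁]
    exact Ideal.mem_map_of_mem _ hk₂

/-- The powers of the kernel on the second factor map onto the powers of the kernel on the first. -/
lemma FibProp.exists_mem_pow (h : FibProp φa φb f g) :
    ∀ (n : ℕ), ∀ y ∈ RingHom.ker f.hom ^ (n + 1), ∃ k ∈ RingHom.ker φb.hom ^ (n + 1), φa k = y
  | 0 => fun y hy => by
    rw [zero_add, pow_one] at hy
    obtain ⟨k, hk₁, hk₂⟩ := h.2 y 0 (by rw [map_zero]; exact hy)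
    exact ⟨k, by rw [zero_add, pow_one]; exact hk₂, hk₁⟩
  | n + 1 => fun y hy => by
    rw [pow_succ _ (n + 1)] at hy
    refine Submodule.mul_induction_on hy (fun y₁ hy₁ y₂ hy₂ => ?_) fun y₁ y₂ h₁ h₂ => ?_
    · obtain ⟨k₁, hk₁, rfl⟩ := FibProp.exists_mem_pow h n y₁ hy₁
      obtain ⟨k₂, hk₂, hk₂'⟩ := h.2 y₂ 0 (by rw [map_zero]; exact hy₂)
      refine ⟨k₁ * k₂, ?_, by rw [map_mul, hk₂]⟩
      rw [pow_succ]
      exact Ideal.mul_mem_mul hk₁ hk₂'
    · obtain ⟨k₁, hk₁, rfl⟩ := h₁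
      obtain ⟨k₂, hk₂, rfl⟩ := h₂
      exact ⟨k₁ + k₂, add_mem hk₁ hk₂, map_add _ _ _⟩

/-- Quotient by a power of the kernel. -/
lemma FibProp.flat_pow {R₀ Q Q' : CommRingCat.{u}} (hw : φa ≫ f = φb ≫ g) (h : FibProp φa φb f g)
    (hf : Function.Surjective f) {ρ : R₀ ⟶ R} (n : ℕ) {q : R ⟶ Q} (hq : Function.Surjective q)
    (hqk : RingHom.ker q.hom = RingHom.ker φb.hom ^ (n + 1)) {q' : A ⟶ Q'} (hq' : Function.Surjective q')
    (hqk' : RingHom.ker q'.hom = RingHom.ker f.hom ^ (n + 1))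
    (hA : (ρ ≫ φa ≫ q').hom.Flat) (hB : (ρ ≫ φb).hom.Flat) (hC : (ρ ≫ φb ≫ g).hom.Flat) :
    (ρ ≫ q).hom.Flat := by
  have lift : ∀ {P S U : CommRingCat.{u}} (p : P ⟶ S) (_ : Function.Surjective p) (v : P ⟶ U)
      (_ : RingHom.ker p.hom ≤ RingHom.ker v.hom), ∃ w : S ⟶ U, p ≫ w = v := fun p hp v hv =>
    ⟨CommRingCat.ofHom (RingHom.liftOfSurjective p.hom hp ⟨v.hom, hv⟩),
      CommRingCat.hom_ext (RingHom.ext fun x =>
        RingHom.liftOfRightInverse_comp_apply p.hom _ (Function.rightInverse_surjInv hp) ⟨v.hom, hv⟩ x)⟩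
  obtain ⟨ψa, hψa⟩ := lift q hq (φa ≫ q') (by
    rw [hqk]
    intro k hk
    show q' (φa k) = 0
    rw [← RingHom.mem_ker, hqk', ← h.map_ker hw, ← Ideal.map_pow]
    exact Ideal.mem_map_of_mem _ hk)
  obtain ⟨ψb, hψb⟩ := lift q hq φb (by rw [hqk]; exact Ideal.pow_le_self n.succ_ne_zero)
  obtain ⟨f', hf'⟩ := lift q' hq' f (by rw [hqk']; exact Ideal.pow_le_self n.succ_ne_zero)
  have hw' : ψa ≫ f' = ψb ≫ g := CommRingCat.hom_ext (RingHom.ext fun y => by
    obtain ⟨r, rfl⟩ := hq y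
    exact congr($((reassoc_of% hψa) f' |>.trans ((congrArg (φa ≫ ·) hf').trans (hw.trans ((reassoc_of% hψb) g).symm))) r))
  have hfib : FibProp ψa ψb f' g := by
    refine ⟨fun s t h₁ h₂ => ?_, fun x y hxy => ?_⟩
    · obtain ⟨s, rfl⟩ := hq s
      obtain ⟨t, rfl⟩ := hq t
      have e₁ : φa (s - t) ∈ RingHom.ker q'.hom := by
        show q' (φa (s - t)) = 0
        rw [map_sub, map_sub, sub_eq_zero]
        exact ((congr($hψa s)).symm.trans (h₁.trans congr($hψa t)))
      have e₂ : φb (s - t) = 0 := by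
        rw [map_sub, sub_eq_zero]
        exact ((congr($hψb s)).symm.trans (h₂.trans congr($hψb t)))
      rw [hqk'] at e₁
      obtain ⟨k, hk, hk'⟩ := h.exists_mem_pow n _ e₁
      have hkst : k = s - t := h.1 _ _ hk' (by
        rw [e₂]; exact RingHom.mem_ker.1 (Ideal.pow_le_self n.succ_ne_zero hk))
      rw [← sub_eq_zero, ← map_sub, ← RingHom.mem_ker, hqk, ← hkst]
      exact hk
    · obtain ⟨x, rfl⟩ := hq' x
      obtain ⟨s, hs₁, hs₂⟩ := h.2 x y ((congr($hf' x)).symm.trans hxy)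
      exact ⟨q s, (congr($hψa s)).trans (congrArg q' hs₁), (congr($hψb s)).trans hs₂⟩
  refine hfib.flat (ρ := ρ ≫ q) hw' (fun c => ?_) ?_ ?_ ?_
  · obtain ⟨x, rfl⟩ := hf c
    exact ⟨q' x, congr($hf' x)⟩
  · rwa [Category.assoc, hψa]
  · rwa [Category.assoc, hψb]
  · rw [Category.assoc, (reassoc_of% hψb) g]; exact hC

/-- Extension of a ring map along a fibre product, when the kernel becomes invertible. -/
lemma FibProp.existsUnique_extend (h : FibProp φa φb f g) (hw : φa ≫ f = φb ≫ g) {T : CommRingCat.{u}} (v : R ⟶ T)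
    {τ : T} (hτ : τ ∈ nonZeroDivisors T) (hK : (RingHom.ker φb.hom).map v.hom = Ideal.span {τ}) :
    ∃! α : A ⟶ T, φa ≫ α = v := by
  have hprime : ∀ a : A, ∀ k ∈ RingHom.ker φb.hom, ∃ k' ∈ RingHom.ker φb.hom, φa k' = a * φa k := fun a k hk => by
    obtain ⟨k', h₁, h₂⟩ := h.2 (a * φa k) 0 (by
      rw [map_mul, map_zero, ← CommRingCat.comp_apply φa, hw, CommRingCat.comp_apply, RingHom.mem_ker.1 hk,
        map_zero, mul_zero])
    exact ⟨k', h₂, h₁⟩
  choose pr hpr hpr' using hprime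
  have cancel : ∀ x y : T, (∀ k ∈ RingHom.ker φb.hom, x * v k = y * v k) → x = y := fun x y hxy => by
    have : ∀ z ∈ (RingHom.ker φb.hom).map v.hom, x * z = y * z := fun z hz => by
      refine Submodule.span_induction ?_ ?_ ?_ ?_ hz
      · rintro _ ⟨k, hk, rfl⟩; exact hxy k hk
      · rw [mul_zero, mul_zero]
      · intro a b _ _ ha hb; rw [mul_add, mul_add, ha, hb]
      · intro c a _ ha; rw [smul_eq_mul, ← mul_assoc, ← mul_assoc, mul_comm x, mul_comm y, mul_assoc, mul_assoc, ha]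
    have h0 := this τ (hK ▸ Ideal.mem_span_singleton_self τ)
    exact sub_eq_zero.1 ((mem_nonZeroDivisors_iff_right.1 hτ) _ (by rw [sub_mul, h0, sub_self]))
  have hex : ∀ a : A, ∃ x : T, ∀ k (hk : k ∈ RingHom.ker φb.hom), x * v k = v (pr a k hk) := by
    intro a
    have hτmem : τ ∈ Submodule.span T (v '' (RingHom.ker φb.hom : Set R)) :=
      show τ ∈ (RingHom.ker φb.hom).map v.hom from hK ▸ Ideal.mem_span_singleton_self τ
    obtain ⟨N, c, t, hsum⟩ := Submodule.mem_span_set'.1 hτmem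
    choose k hk hkv using fun l => (t l).2
    obtain ⟨x, hx⟩ : τ ∣ ∑ l, c l * v (pr a (k l) (hk l)) :=
      Ideal.mem_span_singleton.1 (hK ▸ Ideal.sum_mem _ fun l _ =>
        Ideal.mul_mem_left _ _ (Ideal.mem_map_of_mem _ (hpr a (k l) (hk l))))
    refine ⟨x, fun k₀ hk₀ => sub_eq_zero.1 ((mem_nonZeroDivisors_iff_right.1 hτ) _ ?_)⟩
    have hkk : ∀ l, v k₀ * v (pr a (k l) (hk l)) = v (pr a k₀ hk₀) * v (k l) := fun l => by
      rw [← map_mul, ← map_mul]
      refine congrArg v (h.1 _ _ ?_ ?_)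
      · rw [map_mul, map_mul, hpr', hpr']; ring
      · rw [map_mul, map_mul, RingHom.mem_ker.1 (hpr a (k l) (hk l)), RingHom.mem_ker.1 (hpr a k₀ hk₀),
          mul_zero, zero_mul]
    have hτ' : τ = ∑ l, c l * v (k l) := by
      rw [← hsum]
      exact Finset.sum_congr rfl fun l _ => by rw [smul_eq_mul, hkv]
    rw [sub_mul, sub_eq_zero]
    calc x * v k₀ * τ = v k₀ * ∑ l, c l * v (pr a (k l) (hk l)) := by rw [hx]; ring
      _ = ∑ l, c l * (v k₀ * v (pr a (k l) (hk l))) := by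
          rw [Finset.mul_sum]; exact Finset.sum_congr rfl fun l _ => by ring
      _ = v (pr a k₀ hk₀) * τ := by
          simp only [hkk, hτ', Finset.mul_sum]
          exact Finset.sum_congr rfl fun l _ => by ring
  choose α hα using hex
  have prEq : ∀ (a : A) (k : R) (hk : k ∈ RingHom.ker φb.hom) (k' : R), φb k' = 0 → φa k' = a * φa k → pr a k hk = k' :=
    fun a k hk k' h₁ h₂ => h.1 _ _ ((hpr' a k hk).trans h₂.symm) ((RingHom.mem_ker.1 (hpr a k hk)).trans h₁.symm)
  let αh : A →+* T :=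
    { toFun := α
      map_one' := cancel _ _ fun k hk => by
        rw [hα 1 k hk, prEq 1 k hk k (RingHom.mem_ker.1 hk) (one_mul _).symm, one_mul]
      map_mul' := fun a b => cancel _ _ fun k hk => by
        rw [hα (a * b) k hk, mul_assoc, hα b k hk, hα a _ (hpr b k hk)]
        exact congrArg v (prEq _ _ _ _ (RingHom.mem_ker.1 (hpr _ _ _)) (by rw [hpr', hpr', mul_assoc]))
      map_zero' := cancel _ _ fun k hk => by
        rw [hα 0 k hk, prEq 0 k hk 0 (map_zero _) (by rw [map_zero, zero_mul]), map_zero, zero_mul]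
      map_add' := fun a b => cancel _ _ fun k hk => by
        rw [hα (a + b) k hk, add_mul, hα a k hk, hα b k hk, ← map_add]
        exact congrArg v (prEq _ _ _ _
          (by rw [map_add, RingHom.mem_ker.1 (hpr _ _ _), RingHom.mem_ker.1 (hpr _ _ _), add_zero])
          (by rw [map_add, hpr', hpr', add_mul])) }
  refine ⟨CommRingCat.ofHom αh, CommRingCat.hom_ext (RingHom.ext fun r => cancel _ _ fun k hk => ?_), fun β hβ =>
    CommRingCat.hom_ext (RingHom.ext fun a => cancel _ _ fun k hk => ?_)⟩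
  · show α (φa r) * v k = v r * v k
    rw [hα (φa r) k hk, prEq (φa r) k hk (r * k) (by rw [map_mul, RingHom.mem_ker.1 hk, mul_zero]) (map_mul _ _ _),
      map_mul]
  · show β a * v k = α a * v k
    rw [hα a k hk, ← hβ, CommRingCat.comp_apply, CommRingCat.comp_apply, hpr', map_mul]

end Fib

end Groth.Agent.Pinch2
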