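import Groth.Agent.Pinch2.MapRing
import Mathlib.AlgebraicGeometry.Morphisms.Etale
import Mathlib.AlgebraicGeometry.Morphisms.Smooth

/-!
# Morphisms of pushouts along two closed immersions
-/

set_option autoImplicit false
set_option linter.style.haveILetI false
set_option backward.isDefEq.respectTransparency.types false

universe u

open CategoryTheory CategoryTheory.Limits AlgebraicGeometry TopologicalSpace

noncomputable section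

namespace Groth.Agent.Pinch2

lemma app_surjective_of_closedImmersion {A B : Scheme.{u}} (a : A ⟶ B) [IsClosedImmersion a] {V : B.Opens}
    (hV : IsAffineOpen V) : Function.Surjective (a.app V) := a.app_surjective V hV

variable {X Y Z P₀ X' Y' Z' P' : Scheme.{u}} {i : Z ⟶ X} {j : Z ⟶ Y} [IsClosedImmersion i] [IsClosedImmersion j]
  {a : X ⟶ P₀} {b : Y ⟶ P₀} (hP : IsPushout i j a b)
  {f : X' ⟶ X} {g : Y' ⟶ Y} {i' : Z' ⟶ X'} {j' : Z' ⟶ Y'} {c : Z' ⟶ Z}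
  (hX : IsPullback i' c f i) (hY : IsPullback j' c g j)
  {a' : X' ⟶ P'} {b' : Y' ⟶ P'} (hP' : IsPushout i' j' a' b')
  {h : P' ⟶ P₀} (ha : a' ≫ h = f ≫ a) (hb : b' ≫ h = g ≫ b)

include hP hX hY hP' ha hb

/-- The data over a pair of affine opens. -/
lemma exists_chart_data {V : P₀.Opens} {W : P'.Opens} (hV : IsAffineOpen V) (hW : IsAffineOpen W)
    (e : W ≤ h ⁻¹ᵁ V) :
    IsAffineOpen (a' ⁻¹ᵁ W) ∧ IsAffineOpen (b' ⁻¹ᵁ W) ∧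
    ∃ (eX : a' ⁻¹ᵁ W ≤ f ⁻¹ᵁ (a ⁻¹ᵁ V)) (eY : b' ⁻¹ᵁ W ≤ g ⁻¹ᵁ (b ⁻¹ᵁ V)),
      IsPushout (a.app V) (h.appLE V W e) (f.appLE (a ⁻¹ᵁ V) (a' ⁻¹ᵁ W) eX) (a'.app W) ∧
      IsPushout (b.app V) (h.appLE V W e) (g.appLE (b ⁻¹ᵁ V) (b' ⁻¹ᵁ W) eY) (b'.app W) ∧
      FibAt i j a b hP.w V := by
  haveI : IsClosedImmersion i' := MorphismProperty.of_isPullback hX.flip ‹_›
  haveI : IsClosedImmersion j' := MorphismProperty.of_isPullback hY.flip ‹_›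
  haveI := isClosedImmersion_inr (hasPairs_closedImmersion (i := i) (j := j)) hP
  haveI := isClosedImmersion_inr (hasPairs_closedImmersion (i := j) (j := i)) hP.flip
  haveI := isClosedImmersion_inr (hasPairs_closedImmersion (i := i') (j := j')) hP'
  haveI := isClosedImmersion_inr (hasPairs_closedImmersion (i := j') (j := i')) hP'.flip
  have eX : a' ⁻¹ᵁ W ≤ f ⁻¹ᵁ (a ⁻¹ᵁ V) := by
    rw [← Scheme.Hom.comp_preimage, ← ha, Scheme.Hom.comp_preimage]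
    exact a'.preimage_mono e
  have eY : b' ⁻¹ᵁ W ≤ g ⁻¹ᵁ (b ⁻¹ᵁ V) := by
    rw [← Scheme.Hom.comp_preimage, ← hb, Scheme.Hom.comp_preimage]
    exact b'.preimage_mono e
  refine ⟨hW.preimage a', hW.preimage b', eX, eY, ?_⟩
  have hfib := fibAt_of_isPushout hasPairs_closedImmersion hP hV
  have hfib' := fibAt_of_isPushout hasPairs_closedImmersion hP' hW
  have hjZ := preimage_le hP.w V
  have hjZ' := preimage_le hP'.w W
  have eC : i' ⁻¹ᵁ (a' ⁻¹ᵁ W) ≤ c ⁻¹ᵁ (i ⁻¹ᵁ (a ⁻¹ᵁ V)) := by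
    rw [← Scheme.Hom.comp_preimage c i, ← hX.w, Scheme.Hom.comp_preimage]
    exact i'.preimage_mono eX
  have pX := (isIso_pushoutSection_iff hX le_rfl eX (inf_eq_left.2 eC).symm).1
    (isIso_pushoutSection_of_isAffineOpen hX le_rfl eX (inf_eq_left.2 eC).symm (hV.preimage a)
      ((hV.preimage a).preimage i) (hW.preimage a'))
  have hUY : i' ⁻¹ᵁ (a' ⁻¹ᵁ W) = j' ⁻¹ᵁ (b' ⁻¹ᵁ W) ⊓ c ⁻¹ᵁ (i ⁻¹ᵁ (a ⁻¹ᵁ V)) := by
    rw [← hjZ']; exact (inf_eq_left.2 eC).symm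
  have pY := (isIso_pushoutSection_iff hY hjZ.le eY hUY).1
    (isIso_pushoutSection_of_isAffineOpen hY hjZ.le eY hUY (hV.preimage b)
      ((hV.preimage a).preimage i) (hW.preimage b'))
  have wV : a.app V ≫ i.appLE (a ⁻¹ᵁ V) (i ⁻¹ᵁ (a ⁻¹ᵁ V)) le_rfl =
      b.app V ≫ j.appLE (b ⁻¹ᵁ V) (i ⁻¹ᵁ (a ⁻¹ᵁ V)) hjZ.le := by
    simp only [Scheme.Hom.app_eq_appLE, Scheme.Hom.appLE_comp_appLE, hP.w]
  have wW : a'.app W ≫ i'.appLE (a' ⁻¹ᵁ W) (i' ⁻¹ᵁ (a' ⁻¹ᵁ W)) le_rfl =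
      b'.app W ≫ j'.appLE (b' ⁻¹ᵁ W) (i' ⁻¹ᵁ (a' ⁻¹ᵁ W)) hjZ'.le := by
    simp only [Scheme.Hom.app_eq_appLE, Scheme.Hom.appLE_comp_appLE, hP'.w]
  have hA : a.app V ≫ f.appLE (a ⁻¹ᵁ V) (a' ⁻¹ᵁ W) eX = h.appLE V W e ≫ a'.app W := by
    simp only [Scheme.Hom.app_eq_appLE, Scheme.Hom.appLE_comp_appLE, ha]
  have hB : b.app V ≫ g.appLE (b ⁻¹ᵁ V) (b' ⁻¹ᵁ W) eY = h.appLE V W e ≫ b'.app W := by
    simp only [Scheme.Hom.app_eq_appLE, Scheme.Hom.appLE_comp_appLE, hb]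
  have hj : Function.Surjective (j.appLE (b ⁻¹ᵁ V) (i ⁻¹ᵁ (a ⁻¹ᵁ V)) hjZ.le) := by
    have : ∀ (O : Z.Opens) (hO : O = j ⁻¹ᵁ (b ⁻¹ᵁ V)) (hle : O ≤ j ⁻¹ᵁ (b ⁻¹ᵁ V)),
        Function.Surjective (j.appLE (b ⁻¹ᵁ V) O hle) := by
      rintro O rfl hle
      rw [← Scheme.Hom.app_eq_appLE]
      exact app_surjective_of_closedImmersion j (hV.preimage b)
    exact this _ hjZ _
  have hi : Function.Surjective (i.appLE (a ⁻¹ᵁ V) (i ⁻¹ᵁ (a ⁻¹ᵁ V)) le_rfl) := by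
    rw [← Scheme.Hom.app_eq_appLE]
    exact app_surjective_of_closedImmersion i (hV.preimage a)
  have hfibS : FibProp (b.app V) (a.app V) (j.appLE (b ⁻¹ᵁ V) (i ⁻¹ᵁ (a ⁻¹ᵁ V)) hjZ.le)
      (i.appLE (a ⁻¹ᵁ V) (i ⁻¹ᵁ (a ⁻¹ᵁ V)) le_rfl) :=
    ⟨fun s t h₁ h₂ => hfib.1 s t h₂ h₁, fun x y hxy => by
      obtain ⟨s, h₁, h₂⟩ := hfib.2 y x hxy.symm
      exact ⟨s, h₂, h₁⟩⟩
  have hfibS' : FibProp (b'.app W) (a'.app W) (j'.appLE (b' ⁻¹ᵁ W) (i' ⁻¹ᵁ (a' ⁻¹ᵁ W)) hjZ'.le)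
      (i'.appLE (a' ⁻¹ᵁ W) (i' ⁻¹ᵁ (a' ⁻¹ᵁ W)) le_rfl) :=
    ⟨fun s t h₁ h₂ => hfib'.1 s t h₂ h₁, fun x y hxy => by
      obtain ⟨s, h₁, h₂⟩ := hfib'.2 y x hxy.symm
      exact ⟨s, h₂, h₁⟩⟩
  exact ⟨hfib.isPushout_fst hfib' wW hA hB pY.flip hj (app_surjective_of_closedImmersion a hV)
      (app_surjective_of_closedImmersion a' hW) (app_surjective_of_closedImmersion b' hW),
    hfibS.isPushout_fst hfibS' wW.symm hB hA pX.flip hi (app_surjective_of_closedImmersion b hV)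
      (app_surjective_of_closedImmersion b' hW) (app_surjective_of_closedImmersion a' hW), hfib⟩

variable (P : MorphismProperty Scheme.{u}) {Q : ∀ {R S : Type u} [CommRing R] [CommRing S], (R →+* S) → Prop}
  [HasRingHomProperty P Q]

/-- A property of ring maps stable under base change passes to the two legs. -/
theorem legs_of_map (hQ : RingHom.IsStableUnderBaseChange Q)
    (hsrc : RingHom.StableUnderCompositionWithLocalizationAwaySource Q) (hh : P h) : P f ∧ P g := by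
  haveI : IsClosedImmersion i' := MorphismProperty.of_isPullback hX.flip ‹_›
  haveI : IsClosedImmersion j' := MorphismProperty.of_isPullback hY.flip ‹_›
  refine ⟨(HasRingHomProperty.iff_exists_appLE hsrc).2 fun x => ?_, (HasRingHomProperty.iff_exists_appLE hsrc).2 fun y => ?_⟩
  · obtain ⟨V, hV, hxV, -⟩ := exists_isAffineOpen_mem_and_subset (x := h (a' x)) (U := (⊤ : P₀.Opens)) trivial
    obtain ⟨W, hW, hxW, e⟩ := exists_isAffineOpen_mem_and_subset (x := a' x) (U := h ⁻¹ᵁ V) hxV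
    obtain ⟨hA', -, eX, -, pA, -, -⟩ := exists_chart_data hP hX hY hP' ha hb hV hW e
    haveI := isAffineHom_inl (hasPairs_closedImmersion (i := i) (j := j)) hP
    exact ⟨⟨_, hV.preimage a⟩, ⟨_, hA'⟩, hxW, eX, of_isPushout hQ pA (HasRingHomProperty.appLE P h hh ⟨V, hV⟩ ⟨W, hW⟩ e)⟩
  · obtain ⟨V, hV, hxV, -⟩ := exists_isAffineOpen_mem_and_subset (x := h (b' y)) (U := (⊤ : P₀.Opens)) trivial
    obtain ⟨W, hW, hxW, e⟩ := exists_isAffineOpen_mem_and_subset (x := b' y) (U := h ⁻¹ᵁ V) hxV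
    obtain ⟨-, hB', -, eY, -, pB, -⟩ := exists_chart_data hP hX hY hP' ha hb hV hW e
    haveI := isClosedImmersion_inr (hasPairs_closedImmersion (i := i) (j := j)) hP
    exact ⟨⟨_, hV.preimage b⟩, ⟨_, hB'⟩, hxW, eY, of_isPushout hQ pB (HasRingHomProperty.appLE P h hh ⟨V, hV⟩ ⟨W, hW⟩ e)⟩

omit hP hX hY hP' ha hb in
lemma iff_appLE_all {A B : Scheme.{u}} (φ : A ⟶ B) :
    P φ ↔ ∀ (V : B.affineOpens) (W : A.affineOpens) (e : W.1 ≤ φ ⁻¹ᵁ V.1), Q (φ.appLE V W e).hom :=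
  HasRingHomProperty.iff_appLE (P := P)

/-- A property detected on the two factors holds for the induced map. -/
theorem map_of_legs
    (hQ : ∀ {V : P₀.Opens} {W : P'.Opens} (_ : IsAffineOpen V) (_ : IsAffineOpen W) (e : W ≤ h ⁻¹ᵁ V)
      (eX : a' ⁻¹ᵁ W ≤ f ⁻¹ᵁ (a ⁻¹ᵁ V)) (eY : b' ⁻¹ᵁ W ≤ g ⁻¹ᵁ (b ⁻¹ᵁ V)),
      IsAffineOpen (a' ⁻¹ᵁ W) → IsAffineOpen (b' ⁻¹ᵁ W) →
      IsPushout (a.app V) (h.appLE V W e) (f.appLE (a ⁻¹ᵁ V) (a' ⁻¹ᵁ W) eX) (a'.app W) →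
      IsPushout (b.app V) (h.appLE V W e) (g.appLE (b ⁻¹ᵁ V) (b' ⁻¹ᵁ W) eY) (b'.app W) →
      FibAt i j a b hP.w V → Q (h.appLE V W e).hom) : P h := by
  rw [iff_appLE_all P h]
  intro ⟨V, hV⟩ ⟨W, hW⟩ e
  obtain ⟨hA', hB', eX, eY, pA, pB, hfib⟩ := exists_chart_data hP hX hY hP' ha hb hV hW e
  exact hQ hV hW e eX eY hA' hB' pA pB hfib

end Groth.Agent.Pinch2
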