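import Groth.Agent.Pinch2.RingLoc
import Mathlib.AlgebraicGeometry.Morphisms.ClosedImmersion

/-!
# Affine charts of a Ferrand pushout

A `Pair i j` is an affine open `U` of `X` and an affine open `V` of `Y` with the same preimage in `Z`;
its chart is `Spec (Γ(U) ×_{Γ(i⁻¹U)} Γ(V))`.
-/

set_option autoImplicit false
set_option backward.isDefEq.respectTransparency.types false

universe u

open CategoryTheory AlgebraicGeometry TopologicalSpace

noncomputable section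

namespace Groth.Agent.Pinch2

variable {X Y Z : Scheme.{u}} (i : Z ⟶ X) (j : Z ⟶ Y)

/-- A pair of affine opens with the same preimage. -/
@[ext]
structure Pair where
  /-- The open of `X`. -/
  U : X.Opens
  /-- The open of `Y`. -/
  V : Y.Opens
  hU : IsAffineOpen U
  hV : IsAffineOpen V
  hW : i ⁻¹ᵁ U = j ⁻¹ᵁ V

namespace Pair

variable {i j}

instance : LE (Pair i j) := ⟨fun π π' => π.U ≤ π'.U ∧ π.V ≤ π'.V⟩

instance : Preorder (Pair i j) where
  le_refl π := ⟨le_rfl, le_rfl⟩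
  le_trans π π' π'' h h' := ⟨h.1.trans h'.1, h.2.trans h'.2⟩

variable (π : Pair i j)

/-- The preimage in `Z`. -/
abbrev W : Z.Opens := i ⁻¹ᵁ π.U

lemma hWa [IsClosedImmersion i] : IsAffineOpen π.W := π.hU.preimage i

/-- `Γ(U) → Γ(W)`. -/
abbrev fA : Γ(X, π.U) →+* Γ(Z, π.W) := (i.appLE π.U π.W le_rfl).hom
/-- `Γ(V) → Γ(W)`. -/
abbrev gB : Γ(Y, π.V) →+* Γ(Z, π.W) := (j.appLE π.V π.W π.hW.le).hom

lemma fA_surjective [IsClosedImmersion i] : Function.Surjective π.fA := by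
  rw [fA, ← Scheme.Hom.app_eq_appLE]
  exact i.app_surjective π.U π.hU

/-- The chart ring. -/
abbrev ring : Type u := ↥(fib π.fA π.gB)

/-- The chart. -/
abbrev chart : Scheme.{u} := Spec (CommRingCat.of π.ring)

/-- The `X`-part of the chart. -/
abbrev sA : Spec Γ(X, π.U) ⟶ π.chart := Spec.map (CommRingCat.ofHom (p₁ π.fA π.gB))
/-- The `Y`-part of the chart. -/
abbrev sB : Spec Γ(Y, π.V) ⟶ π.chart := Spec.map (CommRingCat.ofHom (p₂ π.fA π.gB))

lemma fA_comp_eq :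
    (CommRingCat.ofHom (p₁ π.fA π.gB)) ≫ i.appLE π.U π.W le_rfl =
      CommRingCat.ofHom (p₂ π.fA π.gB) ≫ j.appLE π.V π.W π.hW.le :=
  CommRingCat.hom_ext (RingHom.ext fun r => fib_w r)

lemma sA_w : Spec.map (i.appLE π.U π.W le_rfl) ≫ π.sA = Spec.map (j.appLE π.V π.W π.hW.le) ≫ π.sB := by
  rw [← Spec.map_comp, ← Spec.map_comp, fA_comp_eq]

/-- The points of `π` lying over points in opens `U₀` of `X` resp. `V₀` of `Y`. -/
def Over' (U₀ : X.Opens) (V₀ : Y.Opens) (p : π.chart) : Prop :=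
  (∃ x : Spec Γ(X, π.U), π.sA x = p ∧ π.hU.fromSpec x ∈ U₀) ∨
    ∃ y : Spec Γ(Y, π.V), π.sB y = p ∧ π.hV.fromSpec y ∈ V₀

lemma exists_over [IsClosedImmersion i] (p : π.chart) : π.Over' π.U π.V p := by
  rcases exists_point (f := π.fA) (g := π.gB) π.fA_surjective p.asIdeal with ⟨x, hx, hxp, -⟩ | ⟨y, hy, hyp⟩
  · exact Or.inl ⟨⟨x, hx⟩, PrimeSpectrum.ext hxp, π.hU.range_fromSpec.le ⟨_, rfl⟩⟩
  · exact Or.inr ⟨⟨y, hy⟩, PrimeSpectrum.ext hyp, π.hV.range_fromSpec.le ⟨_, rfl⟩⟩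

lemma preimage_basicOpen_eq (r : π.ring) :
    i ⁻¹ᵁ X.basicOpen (p₁ π.fA π.gB r) = j ⁻¹ᵁ Y.basicOpen (p₂ π.fA π.gB r) := by
  have h1 : Z.basicOpen (π.fA (p₁ π.fA π.gB r)) = π.W ⊓ i ⁻¹ᵁ X.basicOpen (p₁ π.fA π.gB r) :=
    Scheme.basicOpen_appLE i _ _ le_rfl _
  have h2 : Z.basicOpen (π.gB (p₂ π.fA π.gB r)) = π.W ⊓ j ⁻¹ᵁ Y.basicOpen (p₂ π.fA π.gB r) :=
    Scheme.basicOpen_appLE j _ _ π.hW.le _
  rw [fib_w, h2] at h1
  rw [inf_eq_right.2 (i.preimage_mono (X.basicOpen_le _)),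
    inf_eq_right.2 ((j.preimage_mono (Y.basicOpen_le _)).trans π.hW.ge)] at h1
  exact h1.symm

/-- The pair cut out by an element of the chart ring. -/
def restrict (r : π.ring) : Pair i j where
  U := X.basicOpen (p₁ π.fA π.gB r)
  V := Y.basicOpen (p₂ π.fA π.gB r)
  hU := π.hU.basicOpen _
  hV := π.hV.basicOpen _
  hW := π.preimage_basicOpen_eq r

lemma restrict_le (r : π.ring) : π.restrict r ≤ π := ⟨X.basicOpen_le _, Y.basicOpen_le _⟩

/-- Separation: a smaller pair around a point inside compatible opens. -/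
lemma exists_basic [IsClosedImmersion i] {U₀ : X.Opens} {V₀ : Y.Opens} (h₀ : i ⁻¹ᵁ U₀ = j ⁻¹ᵁ V₀)
    {p : π.chart} (hp : π.Over' U₀ V₀ p) :
    ∃ r : π.ring, r ∉ p.asIdeal ∧ (π.restrict r).U ≤ U₀ ∧ (π.restrict r).V ≤ V₀ := by
  let F : Set (PrimeSpectrum Γ(X, π.U)) := π.hU.fromSpec ⁻¹' (U₀ : Set X)ᶜ
  let G : Set (PrimeSpectrum Γ(Y, π.V)) := π.hV.fromSpec ⁻¹' (V₀ : Set Y)ᶜ
  have hF : IsClosed F := U₀.2.isClosed_compl.preimage π.hU.fromSpec.continuous
  have hG : IsClosed G := V₀.2.isClosed_compl.preimage π.hV.fromSpec.continuous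
  have hFG : PrimeSpectrum.comap π.fA ⁻¹' F = PrimeSpectrum.comap π.gB ⁻¹' G := by
    ext c
    have e1 : π.hU.fromSpec (Spec.map (i.appLE π.U π.W le_rfl) c) = i (π.hWa.fromSpec c) := by
      rw [← Scheme.Hom.comp_apply, ← Scheme.Hom.comp_apply, π.hU.SpecMap_appLE_fromSpec i π.hWa]
    have e2 : π.hV.fromSpec (Spec.map (j.appLE π.V π.W π.hW.le) c) = j (π.hWa.fromSpec c) := by
      rw [← Scheme.Hom.comp_apply, ← Scheme.Hom.comp_apply, π.hV.SpecMap_appLE_fromSpec j π.hWa]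
    show π.hU.fromSpec (Spec.map (i.appLE π.U π.W le_rfl) c) ∈ (U₀ : Set X)ᶜ ↔
      π.hV.fromSpec (Spec.map (j.appLE π.V π.W π.hW.le) c) ∈ (V₀ : Set Y)ᶜ
    rw [e1, e2, Set.mem_compl_iff, Set.mem_compl_iff]
    exact not_congr (SetLike.ext_iff.1 h₀ (π.hWa.fromSpec c))
  obtain ⟨r, hr, hr₁, hr₂⟩ := exists_elem π.fA_surjective hF hG hFG (P := p.asIdeal) (by
    rcases hp with ⟨x, hx, hxU⟩ | ⟨y, hy, hyV⟩
    · exact Or.inl ⟨x, congrArg PrimeSpectrum.asIdeal hx, fun h => h hxU⟩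
    · exact Or.inr ⟨y, congrArg PrimeSpectrum.asIdeal hy, fun h => h hyV⟩)
  refine ⟨r, hr, fun z hz => ?_, fun z hz => ?_⟩
  · obtain ⟨x, rfl⟩ : z ∈ Set.range π.hU.fromSpec := π.hU.range_fromSpec.symm ▸ X.basicOpen_le _ hz
    by_contra h
    have hx : x ∈ π.hU.fromSpec ⁻¹ᵁ X.basicOpen (p₁ π.fA π.gB r) := hz
    rw [π.hU.fromSpec_preimage_basicOpen] at hx
    exact hx (hr₁ x h)
  · obtain ⟨y, rfl⟩ : z ∈ Set.range π.hV.fromSpec := π.hV.range_fromSpec.symm ▸ Y.basicOpen_le _ hz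
    by_contra h
    have hy : y ∈ π.hV.fromSpec ⁻¹ᵁ Y.basicOpen (p₂ π.fA π.gB r) := hz
    rw [π.hV.fromSpec_preimage_basicOpen] at hy
    exact hy (hr₂ y h)

variable {π} {σ : Pair i j} (h : σ ≤ π)

/-- Restriction of chart rings. -/
def res : π.ring →+* σ.ring :=
  fibMap σ.fA σ.gB (X.presheaf.map (homOfLE h.1).op).hom (Y.presheaf.map (homOfLE h.2).op).hom
    (Z.presheaf.map (homOfLE (i.preimage_mono h.1)).op).hom
    (by rw [fA, fA, ← CommRingCat.hom_comp, ← CommRingCat.hom_comp, Scheme.Hom.map_appLE, Scheme.Hom.appLE_map])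
    (by rw [gB, gB, ← CommRingCat.hom_comp, ← CommRingCat.hom_comp, Scheme.Hom.map_appLE, Scheme.Hom.appLE_map])

@[simp] lemma p₁_res (r : π.ring) :
    p₁ σ.fA σ.gB (res h r) = X.presheaf.map (homOfLE h.1).op (p₁ π.fA π.gB r) := rfl

@[simp] lemma p₂_res (r : π.ring) :
    p₂ σ.fA σ.gB (res h r) = Y.presheaf.map (homOfLE h.2).op (p₂ π.fA π.gB r) := rfl

/-- Transition map of charts. -/
abbrev chartMap : σ.chart ⟶ π.chart := Spec.map (CommRingCat.ofHom (res h))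

lemma res_self (π : Pair i j) (h : π ≤ π) : res h = RingHom.id π.ring := by
  ext r : 1
  apply fib_ext
  · rw [p₁_res, show (homOfLE h.1) = 𝟙 π.U from rfl, op_id, X.presheaf.map_id]; rfl
  · rw [p₂_res, show (homOfLE h.2) = 𝟙 π.V from rfl, op_id, Y.presheaf.map_id]; rfl

lemma res_comp {τ : Pair i j} (h' : τ ≤ σ) : (res h').comp (res h) = res (h'.trans h) := by
  ext r : 1
  apply fib_ext
  · show X.presheaf.map (homOfLE h'.1).op (X.presheaf.map (homOfLE h.1).op (p₁ π.fA π.gB r)) =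
      X.presheaf.map (homOfLE (h'.trans h).1).op (p₁ π.fA π.gB r)
    rw [← CommRingCat.comp_apply, ← X.presheaf.map_comp]; rfl
  · show Y.presheaf.map (homOfLE h'.2).op (Y.presheaf.map (homOfLE h.2).op (p₂ π.fA π.gB r)) =
      Y.presheaf.map (homOfLE (h'.trans h).2).op (p₂ π.fA π.gB r)
    rw [← CommRingCat.comp_apply, ← Y.presheaf.map_comp]; rfl

lemma chartMap_comp {τ : Pair i j} (h' : τ ≤ σ) : chartMap h' ≫ chartMap h = chartMap (h'.trans h) := by
  rw [chartMap, chartMap, chartMap, ← Spec.map_comp, ← CommRingCat.ofHom_comp, res_comp]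

lemma sA_chartMap :
    σ.sA ≫ chartMap h = Spec.map (X.presheaf.map (homOfLE h.1).op) ≫ π.sA := by
  rw [sA, sA, chartMap, ← Spec.map_comp, ← Spec.map_comp]
  rfl

lemma sB_chartMap :
    σ.sB ≫ chartMap h = Spec.map (Y.presheaf.map (homOfLE h.2).op) ≫ π.sB := by
  rw [sB, sB, chartMap, ← Spec.map_comp, ← Spec.map_comp]
  rfl

lemma fromSpec_res (x : Spec Γ(X, σ.U)) :
    π.hU.fromSpec (Spec.map (X.presheaf.map (homOfLE h.1).op) x) = σ.hU.fromSpec x := by
  rw [← Scheme.Hom.comp_apply, π.hU.map_fromSpec σ.hU]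

lemma fromSpec_resB (y : Spec Γ(Y, σ.V)) :
    π.hV.fromSpec (Spec.map (Y.presheaf.map (homOfLE h.2).op) y) = σ.hV.fromSpec y := by
  rw [← Scheme.Hom.comp_apply, π.hV.map_fromSpec σ.hV]

variable [IsClosedImmersion i]

/-- Restriction to `π.restrict r` is localisation at `r`. -/
lemma isLocalization_restrict (π : Pair i j) (r : π.ring) :
    letI := (res (π.restrict_le r)).toAlgebra
    IsLocalization.Away r (π.restrict r).ring := by
  let τ := π.restrict r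
  let hle := π.restrict_le r
  letI := (X.presheaf.map (homOfLE hle.1).op).hom.toAlgebra
  letI := (Y.presheaf.map (homOfLE hle.2).op).hom.toAlgebra
  letI := (Z.presheaf.map (homOfLE (i.preimage_mono hle.1)).op).hom.toAlgebra
  haveI : IsLocalization.Away (p₁ π.fA π.gB r) Γ(X, τ.U) := π.hU.isLocalization_basicOpen _
  haveI : IsLocalization.Away (p₂ π.fA π.gB r) Γ(Y, τ.V) := π.hV.isLocalization_basicOpen _
  haveI : IsLocalization.Away (π.fA (p₁ π.fA π.gB r)) Γ(Z, τ.W) :=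
    π.hWa.isLocalization_of_eq_basicOpen _ _ (by
      show τ.W = Z.basicOpen ((i.appLE π.U π.W le_rfl) (p₁ π.fA π.gB r))
      rw [Scheme.basicOpen_appLE]
      exact (inf_eq_right.2 (i.preimage_mono (X.basicOpen_le _))).symm)
  exact isLocalization_fib π.fA π.gB τ.fA τ.gB
    (by rw [RingHom.algebraMap_toAlgebra, RingHom.algebraMap_toAlgebra, fA, fA, ← CommRingCat.hom_comp,
      ← CommRingCat.hom_comp, Scheme.Hom.map_appLE, Scheme.Hom.appLE_map])
    (by rw [RingHom.algebraMap_toAlgebra, RingHom.algebraMap_toAlgebra, gB, gB, ← CommRingCat.hom_comp,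
      ← CommRingCat.hom_comp, Scheme.Hom.map_appLE, Scheme.Hom.appLE_map]) r

lemma isOpenImmersion_restrict (π : Pair i j) (r : π.ring) : IsOpenImmersion (chartMap (π.restrict_le r)) := by
  letI := (res (π.restrict_le r)).toAlgebra
  haveI := π.isLocalization_restrict r
  exact IsOpenImmersion.of_isLocalization r

lemma mem_range_restrict (π : Pair i j) (r : π.ring) (p : π.chart) :
    p ∈ Set.range (chartMap (π.restrict_le r)) ↔ r ∉ p.asIdeal := by
  letI := (res (π.restrict_le r)).toAlgebra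
  haveI := π.isLocalization_restrict r
  exact Set.ext_iff.1 (PrimeSpectrum.localization_away_comap_range (π.restrict r).ring r) p

/-- Around the image of a point of a smaller chart, the transition map is an isomorphism. -/
lemma exists_local (q : σ.chart) :
    ∃ r : π.ring, ∃ hrσ : π.restrict r ≤ σ, r ∉ (chartMap h q).asIdeal ∧
      IsOpenImmersion (chartMap hrσ) ∧ ∀ q' : σ.chart, r ∉ (chartMap h q').asIdeal → q' ∈ Set.range (chartMap hrσ) := by
  have hov : π.Over' σ.U σ.V (chartMap h q) := by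
    rcases σ.exists_over q with ⟨x, hx, hxU⟩ | ⟨y, hy, hyV⟩
    · exact Or.inl ⟨Spec.map (X.presheaf.map (homOfLE h.1).op) x,
        by rw [← Scheme.Hom.comp_apply, ← sA_chartMap, Scheme.Hom.comp_apply, hx], by rwa [fromSpec_res h]⟩
    · exact Or.inr ⟨Spec.map (Y.presheaf.map (homOfLE h.2).op) y,
        by rw [← Scheme.Hom.comp_apply, ← sB_chartMap, Scheme.Hom.comp_apply, hy], by rwa [fromSpec_resB h]⟩
  obtain ⟨r, hr, hrU, hrV⟩ := π.exists_basic σ.hW hov
  have he : σ.restrict (res h r) = π.restrict r := by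
    apply Pair.ext
    · show X.basicOpen (X.presheaf.map (homOfLE h.1).op (p₁ π.fA π.gB r)) = _
      rw [Scheme.basicOpen_res]
      exact inf_eq_right.2 hrU
    · show Y.basicOpen (Y.presheaf.map (homOfLE h.2).op (p₂ π.fA π.gB r)) = _
      rw [Scheme.basicOpen_res]
      exact inf_eq_right.2 hrV
  have key : ∀ (τ : Pair i j) (hτ : τ ≤ σ), σ.restrict (res h r) = τ →
      IsOpenImmersion (chartMap hτ) ∧ ∀ q' : σ.chart, res h r ∉ q'.asIdeal → q' ∈ Set.range (chartMap hτ) := by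
    rintro τ hτ rfl
    exact ⟨σ.isOpenImmersion_restrict _, fun q' hq' => (σ.mem_range_restrict _ q').2 hq'⟩
  obtain ⟨k1, k2⟩ := key _ ⟨hrU, hrV⟩ he
  exact ⟨r, ⟨hrU, hrV⟩, hr, k1, fun q' hq' => k2 q' hq'⟩

instance isOpenImmersion_chartMap : IsOpenImmersion (chartMap h) := by
  have hφ : ∀ q : σ.chart, ∃ (τ : Pair i j) (hτ : τ ≤ σ), q ∈ Set.range (chartMap hτ) ∧ IsOpenImmersion (chartMap hτ) ∧
      IsOpenImmersion (chartMap (hτ.trans h)) ∧
      ∀ q' : σ.chart, chartMap h q' ∈ Set.range (chartMap (hτ.trans h)) → q' ∈ Set.range (chartMap hτ) := by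
    intro q
    obtain ⟨r, hrσ, hr, ho, hmem⟩ := exists_local h q
    exact ⟨π.restrict r, hrσ, hmem q hr, ho, π.isOpenImmersion_restrict r,
      fun q' hq' => hmem q' ((π.mem_range_restrict r _).1 hq')⟩
  refine IsOpenImmersion.iff_isIso_stalkMap.2 ⟨.of_continuous_injective_isOpenMap (Scheme.Hom.continuous _) ?_ ?_, fun q => ?_⟩
  · intro q q' hqq'
    obtain ⟨τ, hτ, ⟨t, rfl⟩, -, ho, hmem⟩ := hφ q
    obtain ⟨t', rfl⟩ := hmem q' ⟨t, by rw [← chartMap_comp h hτ, Scheme.Hom.comp_apply, hqq']⟩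
    rw [← Scheme.Hom.comp_apply, ← Scheme.Hom.comp_apply, chartMap_comp] at hqq'
    rw [(chartMap (hτ.trans h)).isOpenEmbedding.injective hqq']
  · intro O hO
    rw [isOpen_iff_forall_mem_open]
    rintro _ ⟨q, hq, rfl⟩
    obtain ⟨τ, hτ, ⟨t, rfl⟩, -, ho, -⟩ := hφ q
    refine ⟨chartMap (hτ.trans h) '' (chartMap hτ ⁻¹' O), ?_,
      (chartMap (hτ.trans h)).isOpenEmbedding.isOpenMap _ (hO.preimage (Scheme.Hom.continuous _)),
      ⟨t, hq, by rw [← chartMap_comp h hτ, Scheme.Hom.comp_apply]⟩⟩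
    rintro _ ⟨s, hs, rfl⟩
    exact ⟨_, hs, by rw [← chartMap_comp h hτ, Scheme.Hom.comp_apply]⟩
  · obtain ⟨τ, hτ, ⟨t, rfl⟩, ho₁, ho, -⟩ := hφ q
    haveI := ho₁
    haveI := ho
    haveI : IsIso ((chartMap h).stalkMap (chartMap hτ t) ≫ (chartMap hτ).stalkMap t) := by
      haveI : IsOpenImmersion (chartMap hτ ≫ chartMap h) := by rw [chartMap_comp h hτ]; exact ho
      rw [← Scheme.Hom.stalkMap_comp]
      exact inferInstanceAs (IsIso ((chartMap hτ ≫ chartMap h).stalkMap t))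
    exact IsIso.of_isIso_comp_right _ ((chartMap hτ).stalkMap t)

/-- Points of the chart over the image of a smaller chart lie in the smaller opens. -/
lemma mem_of_over (q : σ.chart) :
    (∀ x : Spec Γ(X, π.U), π.sA x = chartMap h q → π.hU.fromSpec x ∈ σ.U) ∧
      ∀ y : Spec Γ(Y, π.V), π.sB y = chartMap h q → π.hV.fromSpec y ∈ σ.V := by
  obtain ⟨r, hrσ, hr, -, -⟩ := exists_local h q
  refine ⟨fun x hx => hrσ.1 ?_, fun y hy => hrσ.2 ?_⟩
  · show x ∈ π.hU.fromSpec ⁻¹ᵁ X.basicOpen (p₁ π.fA π.gB r)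
    rw [π.hU.fromSpec_preimage_basicOpen]
    rw [← hx] at hr
    exact hr
  · show y ∈ π.hV.fromSpec ⁻¹ᵁ Y.basicOpen (p₂ π.fA π.gB r)
    rw [π.hV.fromSpec_preimage_basicOpen]
    rw [← hy] at hr
    exact hr

end Pair

end Groth.Agent.Pinch2
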