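import Groth.Agent.Pinch2.Chart
import Mathlib.AlgebraicGeometry.Gluing
import Mathlib.AlgebraicGeometry.Morphisms.Affine

/-!
# The Ferrand pushout as the colimit of its affine charts
-/

set_option autoImplicit false
set_option backward.isDefEq.respectTransparency.types false

universe u

open CategoryTheory CategoryTheory.Limits AlgebraicGeometry TopologicalSpace

noncomputable section

namespace Groth.Agent.Pinch2

/-- Gluing morphisms given on opens which agree on a neighbourhood of each common point. -/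
theorem exists_glue {X T : Scheme.{u}} {ι : Type u} (U : ι → X.Opens) (hcov : ∀ x, ∃ k, x ∈ U k)
    (f : ∀ k, (U k).toScheme ⟶ T)
    (hf : ∀ (k l : ι) (x : X), x ∈ U k → x ∈ U l → ∃ (W : X.Opens) (hk : W ≤ U k) (hl : W ≤ U l), x ∈ W ∧
      X.homOfLE hk ≫ f k = X.homOfLE hl ≫ f l) :
    ∃ a : X ⟶ T, ∀ k, (U k).ι ≫ a = f k := by
  let 𝒰 := X.openCoverOfIsOpenCover U
    (IsOpenCover.mk (eq_top_iff.mpr fun x _ => Opens.mem_iSup.mpr (hcov x)))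
  have hcompat : ∀ k l : ι, pullback.fst (U k).ι (U l).ι ≫ f k = pullback.snd (U k).ι (U l).ι ≫ f l := by
    intro k l
    have h : X.homOfLE (inf_le_left : U k ⊓ U l ≤ U k) ≫ f k =
        X.homOfLE (inf_le_right : U k ⊓ U l ≤ U l) ≫ f l := by
      refine Scheme.hom_ext_of_forall _ _ fun x => ?_
      obtain ⟨W, hk, hl, hxW, he⟩ := hf k l x.1 x.2.1 x.2.2
      have hWle : W ≤ U k ⊓ U l := le_inf hk hl
      refine ⟨(U k ⊓ U l).ι ⁻¹ᵁ W, hxW, ?_⟩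
      have hι : ((U k ⊓ U l).ι ∣_ W) ≫ X.homOfLE hWle = ((U k ⊓ U l).ι ⁻¹ᵁ W).ι := by
        simp [← cancel_mono (U k ⊓ U l).ι]
      rw [← hι, Category.assoc, Category.assoc, ← Category.assoc (X.homOfLE hWle),
        ← Category.assoc (X.homOfLE hWle), X.homOfLE_homOfLE, X.homOfLE_homOfLE, he]
    rw [← cancel_epi (isPullback_opens_inf (U k) (U l)).isoPullback.hom]
    simpa using h
  exact ⟨𝒰.glueMorphisms f hcompat, fun k => 𝒰.ι_glueMorphisms f hcompat k⟩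

variable {X Y Z : Scheme.{u}} (i : Z ⟶ X) (j : Z ⟶ Y)

/-- Every point of `X` and of `Y` lies in a pair. -/
def HasPairs : Prop :=
  (∀ x : X, ∃ π : Pair i j, x ∈ π.U) ∧ ∀ y : Y, ∃ π : Pair i j, y ∈ π.V

/-- The diagram of charts. -/
def diagram : Pair i j ⥤ Scheme.{u} where
  obj π := π.chart
  map f := Pair.chartMap (leOfHom f)
  map_id π := by
    show Spec.map (CommRingCat.ofHom (Pair.res _)) = _
    rw [Pair.res_self, CommRingCat.ofHom_id, Spec.map_id]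
  map_comp f g := (Pair.chartMap_comp (leOfHom g) (leOfHom f)).symm

variable [IsClosedImmersion i]

instance {π π' : Pair i j} (f : π ⟶ π') : IsOpenImmersion ((diagram i j).map f) :=
  Pair.isOpenImmersion_chartMap (leOfHom f)

instance : ((diagram i j) ⋙ Scheme.forget).IsLocallyDirected := by
  constructor
  intro σ₁ σ₂ π f₁ f₂ q₁ q₂ hq
  have h₁ := leOfHom f₁
  have h₂ := leOfHom f₂
  change Pair.chartMap h₁ q₁ = Pair.chartMap h₂ q₂ at hq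
  have hov : π.Over' (σ₁.U ⊓ σ₂.U) (σ₁.V ⊓ σ₂.V) (Pair.chartMap h₁ q₁) := by
    obtain ⟨hA₁, hB₁⟩ := Pair.mem_of_over h₁ q₁
    obtain ⟨hA₂, hB₂⟩ := Pair.mem_of_over h₂ q₂
    rcases π.exists_over (Pair.chartMap h₁ q₁) with ⟨x, hx, -⟩ | ⟨y, hy, -⟩
    · exact Or.inl ⟨x, hx, hA₁ x hx, hA₂ x (hx.trans hq)⟩
    · exact Or.inr ⟨y, hy, hB₁ y hy, hB₂ y (hy.trans hq)⟩
  obtain ⟨r, hr, hrU, hrV⟩ := π.exists_basic (U₀ := σ₁.U ⊓ σ₂.U) (V₀ := σ₁.V ⊓ σ₂.V)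
    (by rw [Scheme.Hom.preimage_inf, Scheme.Hom.preimage_inf, σ₁.hW, σ₂.hW]) hov
  obtain ⟨t, ht⟩ := (π.mem_range_restrict r _).2 hr
  have hτ₁ : π.restrict r ≤ σ₁ := ⟨hrU.trans inf_le_left, hrV.trans inf_le_left⟩
  have hτ₂ : π.restrict r ≤ σ₂ := ⟨hrU.trans inf_le_right, hrV.trans inf_le_right⟩
  refine ⟨π.restrict r, homOfLE hτ₁, homOfLE hτ₂, t, ?_, ?_⟩
  · refine (Pair.chartMap h₁).isOpenEmbedding.injective ?_
    show Pair.chartMap h₁ (Pair.chartMap hτ₁ t) = _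
    rw [← Scheme.Hom.comp_apply, Pair.chartMap_comp, ht]
  · refine (Pair.chartMap h₂).isOpenEmbedding.injective ?_
    show Pair.chartMap h₂ (Pair.chartMap hτ₂ t) = _
    rw [← Scheme.Hom.comp_apply, Pair.chartMap_comp, ht, hq]

/-- The pushout. -/
def P : Scheme.{u} := colimit (diagram i j)

variable {i j}

/-- The inclusion of a chart. -/
def incl (π : Pair i j) : π.chart ⟶ P i j := colimit.ι (diagram i j) π

instance (π : Pair i j) : IsOpenImmersion (incl π) :=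
  inferInstanceAs (IsOpenImmersion (colimit.ι (diagram i j) π))

@[reassoc]
lemma chartMap_incl {σ π : Pair i j} (h : σ ≤ π) : Pair.chartMap h ≫ incl π = incl σ :=
  colimit.w (diagram i j) (homOfLE h)

lemma incl_eq_iff {π π' : Pair i j} {p : π.chart} {p' : π'.chart} (h : incl π p = incl π' p') :
    ∃ (τ : Pair i j) (h₁ : τ ≤ π) (h₂ : τ ≤ π') (t : τ.chart), Pair.chartMap h₁ t = p ∧ Pair.chartMap h₂ t = p' := by
  obtain ⟨τ, f₁, f₂, t, e₁, e₂⟩ := Scheme.IsLocallyDirected.ι_eq_ι_iff (diagram i j) |>.1 h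
  exact ⟨τ, leOfHom f₁, leOfHom f₂, t, e₁, e₂⟩

lemma exists_incl (p : P i j) : ∃ (π : Pair i j) (q : π.chart), incl π q = p :=
  Scheme.IsLocallyDirected.ι_jointly_surjective (diagram i j) p

/-- The map of the `X`-part of a pair to the pushout. -/
def aOn (π : Pair i j) : π.U.toScheme ⟶ P i j := π.hU.isoSpec.hom ≫ π.sA ≫ incl π
/-- The map of the `Y`-part of a pair to the pushout. -/
def bOn (π : Pair i j) : π.V.toScheme ⟶ P i j := π.hV.isoSpec.hom ≫ π.sB ≫ incl π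

omit [IsClosedImmersion i] in
lemma homOfLE_isoSpec {W : Scheme.{u}} {U V : W.Opens} (hU : IsAffineOpen U) (hV : IsAffineOpen V) (h : U ≤ V) :
    W.homOfLE h ≫ hV.isoSpec.hom = hU.isoSpec.hom ≫ Spec.map (W.presheaf.map (homOfLE h).op) := by
  rw [← cancel_mono hV.fromSpec, Category.assoc, Category.assoc, hV.map_fromSpec hU,
    IsAffineOpen.isoSpec_hom_fromSpec, IsAffineOpen.isoSpec_hom_fromSpec, Scheme.homOfLE_ι]

lemma homOfLE_aOn {σ π : Pair i j} (h : σ ≤ π) : X.homOfLE h.1 ≫ aOn π = aOn σ := by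
  rw [aOn, aOn, ← Category.assoc, homOfLE_isoSpec σ.hU π.hU h.1, Category.assoc,
    ← Category.assoc (Spec.map _), ← Pair.sA_chartMap h, Category.assoc, chartMap_incl]

lemma homOfLE_bOn {σ π : Pair i j} (h : σ ≤ π) : Y.homOfLE h.2 ≫ bOn π = bOn σ := by
  rw [bOn, bOn, ← Category.assoc, homOfLE_isoSpec σ.hV π.hV h.2, Category.assoc,
    ← Category.assoc (Spec.map _), ← Pair.sB_chartMap h, Category.assoc, chartMap_incl]

lemma exists_le_inf (π π' : Pair i j) (p : π.chart)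
    (hp : π.Over' (π.U ⊓ π'.U) (π.V ⊓ π'.V) p) :
    ∃ σ : Pair i j, ∃ h : σ ≤ π, σ ≤ π' ∧ p ∈ Set.range (Pair.chartMap h) := by
  obtain ⟨r, hr, hrU, hrV⟩ := π.exists_basic (U₀ := π.U ⊓ π'.U) (V₀ := π.V ⊓ π'.V)
    (by rw [Scheme.Hom.preimage_inf, Scheme.Hom.preimage_inf, π.hW, π'.hW]) hp
  exact ⟨π.restrict r, π.restrict_le r, ⟨hrU.trans inf_le_right, hrV.trans inf_le_right⟩,
    (π.mem_range_restrict r p).2 hr⟩

lemma exists_aMap (H : HasPairs i j) : ∃ a : X ⟶ P i j, ∀ π : Pair i j, π.U.ι ≫ a = aOn π := by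
  refine exists_glue (fun π : Pair i j => π.U) H.1 aOn fun π π' x hx hx' => ?_
  obtain ⟨z, rfl⟩ : x ∈ Set.range π.hU.fromSpec := π.hU.range_fromSpec.symm ▸ hx
  obtain ⟨σ, h, h', t, ht⟩ := exists_le_inf π π' (π.sA z) (Or.inl ⟨z, rfl, hx, hx'⟩)
  exact ⟨σ.U, h.1, h'.1, (Pair.mem_of_over h t).1 z ht.symm, by rw [homOfLE_aOn h, homOfLE_aOn h']⟩

lemma exists_bMap (H : HasPairs i j) : ∃ b : Y ⟶ P i j, ∀ π : Pair i j, π.V.ι ≫ b = bOn π := by
  refine exists_glue (fun π : Pair i j => π.V) H.2 bOn fun π π' y hy hy' => ?_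
  obtain ⟨z, rfl⟩ : y ∈ Set.range π.hV.fromSpec := π.hV.range_fromSpec.symm ▸ hy
  obtain ⟨σ, h, h', t, ht⟩ := exists_le_inf π π' (π.sB z) (Or.inr ⟨z, rfl, hy, hy'⟩)
  exact ⟨σ.V, h.2, h'.2, (Pair.mem_of_over h t).2 z ht.symm, by rw [homOfLE_bOn h, homOfLE_bOn h']⟩

variable (H : HasPairs i j)

/-- The map from `X`. -/
def aMap : X ⟶ P i j := (exists_aMap H).choose
/-- The map from `Y`. -/
def bMap : Y ⟶ P i j := (exists_bMap H).choose

@[reassoc]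
lemma fromSpec_aMap (π : Pair i j) : π.hU.fromSpec ≫ aMap H = π.sA ≫ incl π := by
  rw [← cancel_epi π.hU.isoSpec.hom, IsAffineOpen.isoSpec_hom_fromSpec_assoc]
  exact (exists_aMap H).choose_spec π

@[reassoc]
lemma fromSpec_bMap (π : Pair i j) : π.hV.fromSpec ≫ bMap H = π.sB ≫ incl π := by
  rw [← cancel_epi π.hV.isoSpec.hom, IsAffineOpen.isoSpec_hom_fromSpec_assoc]
  exact (exists_bMap H).choose_spec π

lemma aMap_fromSpec_apply (π : Pair i j) (x : Spec Γ(X, π.U)) :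
    aMap H (π.hU.fromSpec x) = incl π (π.sA x) := by
  rw [← Scheme.Hom.comp_apply, fromSpec_aMap, Scheme.Hom.comp_apply]

lemma bMap_fromSpec_apply (π : Pair i j) (y : Spec Γ(Y, π.V)) :
    bMap H (π.hV.fromSpec y) = incl π (π.sB y) := by
  rw [← Scheme.Hom.comp_apply, fromSpec_bMap, Scheme.Hom.comp_apply]

lemma jointly_surjective (p : P i j) : (∃ x, aMap H x = p) ∨ ∃ y, bMap H y = p := by
  obtain ⟨π, q, rfl⟩ := exists_incl p
  rcases π.exists_over q with ⟨x, hx, -⟩ | ⟨y, hy, -⟩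
  · exact Or.inl ⟨π.hU.fromSpec x, by rw [aMap_fromSpec_apply, hx]⟩
  · exact Or.inr ⟨π.hV.fromSpec y, by rw [bMap_fromSpec_apply, hy]⟩

lemma w : i ≫ aMap H = j ≫ bMap H := by
  refine Scheme.hom_ext_of_forall _ _ fun z => ?_
  obtain ⟨π, hz⟩ := H.1 (i z)
  refine ⟨π.W, hz, ?_⟩
  have e : π.hWa.fromSpec ≫ i ≫ aMap H = π.hWa.fromSpec ≫ j ≫ bMap H := by
    rw [← π.hU.SpecMap_appLE_fromSpec_assoc i π.hWa le_rfl,
      ← π.hV.SpecMap_appLE_fromSpec_assoc j π.hWa π.hW.le, fromSpec_aMap, fromSpec_bMap,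
      ← Category.assoc, ← Category.assoc, Pair.sA_w]
  rw [← cancel_epi π.hWa.isoSpec.inv]
  rwa [IsAffineOpen.isoSpec_inv_ι_assoc, IsAffineOpen.isoSpec_inv_ι_assoc]

/-- The preimage of a chart in `X`. -/
lemma preimage_aMap (π : Pair i j) : aMap H ⁻¹ᵁ (incl π).opensRange = π.U := by
  ext x
  constructor
  · rintro ⟨p, hp⟩
    obtain ⟨π', hx⟩ := H.1 x
    obtain ⟨z, rfl⟩ : x ∈ Set.range π'.hU.fromSpec := π'.hU.range_fromSpec.symm ▸ hx
    rw [aMap_fromSpec_apply] at hp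
    obtain ⟨τ, h₁, h₂, t, -, ht⟩ := incl_eq_iff hp
    exact h₁.1 ((Pair.mem_of_over h₂ t).1 z ht.symm)
  · intro hx
    obtain ⟨z, rfl⟩ : x ∈ Set.range π.hU.fromSpec := π.hU.range_fromSpec.symm ▸ hx
    exact ⟨π.sA z, (aMap_fromSpec_apply H π z).symm⟩

/-- The preimage of a chart in `Y`. -/
lemma preimage_bMap (π : Pair i j) : bMap H ⁻¹ᵁ (incl π).opensRange = π.V := by
  ext y
  constructor
  · rintro ⟨p, hp⟩
    obtain ⟨π', hy⟩ := H.2 y
    obtain ⟨z, rfl⟩ : y ∈ Set.range π'.hV.fromSpec := π'.hV.range_fromSpec.symm ▸ hy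
    rw [bMap_fromSpec_apply] at hp
    obtain ⟨τ, h₁, h₂, t, -, ht⟩ := incl_eq_iff hp
    exact h₁.2 ((Pair.mem_of_over h₂ t).2 z ht.symm)
  · intro hy
    obtain ⟨z, rfl⟩ : y ∈ Set.range π.hV.fromSpec := π.hV.range_fromSpec.symm ▸ hy
    exact ⟨π.sB z, (bMap_fromSpec_apply H π z).symm⟩

lemma isPullback_aMap (π : Pair i j) : IsPullback π.sA π.hU.fromSpec (incl π) (aMap H) :=
  IsOpenImmersion.isPullback _ _ _ _ (fromSpec_aMap H π)
    ((preimage_aMap H π).trans π.hU.opensRange_fromSpec.symm)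

lemma isPullback_bMap (π : Pair i j) : IsPullback π.sB π.hV.fromSpec (incl π) (bMap H) :=
  IsOpenImmersion.isPullback _ _ _ _ (fromSpec_bMap H π)
    ((preimage_bMap H π).trans π.hV.opensRange_fromSpec.symm)

section Desc

variable {T : Scheme.{u}} (g₁ : X ⟶ T) (g₂ : Y ⟶ T)

lemma exists_mapTo (hg : i ≫ g₁ = j ≫ g₂) (σ : Pair i j) {T' : T.Opens} (hT : IsAffineOpen T')
    (e₁ : σ.U ≤ g₁ ⁻¹ᵁ T') (e₂ : σ.V ≤ g₂ ⁻¹ᵁ T') :
    ∃ ψ : Γ(T, T') ⟶ CommRingCat.of σ.ring,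
      ψ ≫ CommRingCat.ofHom (p₁ σ.fA σ.gB) = g₁.appLE T' σ.U e₁ ∧
        ψ ≫ CommRingCat.ofHom (p₂ σ.fA σ.gB) = g₂.appLE T' σ.V e₂ := by
  refine ⟨CommRingCat.ofHom (((g₁.appLE T' σ.U e₁).hom.prod (g₂.appLE T' σ.V e₂).hom).codRestrict _ fun s => ?_),
    rfl, rfl⟩
  show (g₁.appLE T' σ.U e₁ ≫ i.appLE σ.U σ.W le_rfl) s = (g₂.appLE T' σ.V e₂ ≫ j.appLE σ.V σ.W σ.hW.le) s
  simp only [Scheme.Hom.appLE_comp_appLE, hg]

include H in
lemma exists_desc (hg : i ≫ g₁ = j ≫ g₂) :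
    ∃ m : P i j ⟶ T, aMap H ≫ m = g₁ ∧ bMap H ≫ m = g₂ := by
  let K := {σT : Pair i j × T.affineOpens // σT.1.U ≤ g₁ ⁻¹ᵁ σT.2.1 ∧ σT.1.V ≤ g₂ ⁻¹ᵁ σT.2.1}
  choose ψ hψ₁ hψ₂ using fun k : K => exists_mapTo g₁ g₂ hg k.1.1 k.1.2.2 k.2.1 k.2.2
  let m₀ : ∀ k : K, k.1.1.chart ⟶ T := fun k => Spec.map (ψ k) ≫ k.1.2.2.fromSpec
  let O : K → (P i j).Opens := fun k => (incl k.1.1).opensRange
  have adapted : ∀ (π : Pair i j) (q : π.chart) (T₀ : T.Opens), π.Over' (g₁ ⁻¹ᵁ T₀) (g₂ ⁻¹ᵁ T₀) q →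
      ∃ σ : Pair i j, ∃ h : σ ≤ π, σ.U ≤ g₁ ⁻¹ᵁ T₀ ∧ σ.V ≤ g₂ ⁻¹ᵁ T₀ ∧ q ∈ Set.range (Pair.chartMap h) := by
    intro π q T₀ hov
    obtain ⟨r, hr, hrU, hrV⟩ := π.exists_basic (U₀ := g₁ ⁻¹ᵁ T₀) (V₀ := g₂ ⁻¹ᵁ T₀)
      (by rw [← Scheme.Hom.comp_preimage, ← Scheme.Hom.comp_preimage, hg]) hov
    exact ⟨π.restrict r, π.restrict_le r, hrU, hrV, (π.mem_range_restrict r q).2 hr⟩
  have point : ∀ (π : Pair i j) (q : π.chart), ∃ t : T,
      (∀ T₀ : T.Opens, t ∈ T₀ → π.Over' (g₁ ⁻¹ᵁ T₀) (g₂ ⁻¹ᵁ T₀) q) ∧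
      ∀ T₀ : T.Opens, π.U ≤ g₁ ⁻¹ᵁ T₀ → π.V ≤ g₂ ⁻¹ᵁ T₀ → t ∈ T₀ := by
    intro π q
    rcases π.exists_over q with ⟨x, hx, hxU⟩ | ⟨y, hy, hyV⟩
    · exact ⟨g₁ (π.hU.fromSpec x), fun T₀ ht => Or.inl ⟨x, hx, ht⟩, fun T₀ h _ => h hxU⟩
    · exact ⟨g₂ (π.hV.fromSpec y), fun T₀ ht => Or.inr ⟨y, hy, ht⟩, fun T₀ _ h => h hyV⟩
  have hcov : ∀ p : P i j, ∃ k, p ∈ O k := by
    intro p
    obtain ⟨π, q, rfl⟩ := exists_incl p
    obtain ⟨t, ht, -⟩ := point π q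
    obtain ⟨T', hT', htT', -⟩ := exists_isAffineOpen_mem_and_subset (x := t) (U := (⊤ : T.Opens)) trivial
    obtain ⟨σ, h, h₁, h₂, s, rfl⟩ := adapted π q T' (ht T' htT')
    exact ⟨⟨(σ, ⟨T', hT'⟩), h₁, h₂⟩, s, by rw [← Scheme.Hom.comp_apply, chartMap_incl]⟩
  have nat : ∀ (k l : K) (h : l.1.1 ≤ k.1.1), l.1.2.1 ≤ k.1.2.1 → Pair.chartMap h ≫ m₀ k = m₀ l := by
    intro k l h hT
    have e : ψ k ≫ CommRingCat.ofHom (Pair.res h) = T.presheaf.map (homOfLE hT).op ≫ ψ l := by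
      refine CommRingCat.hom_ext (RingHom.ext fun s => fib_ext (f := l.1.1.fA) (g := l.1.1.gB) ?_ ?_)
      · show X.presheaf.map (homOfLE h.1).op (p₁ k.1.1.fA k.1.1.gB (ψ k s)) =
          (ψ l ≫ CommRingCat.ofHom (p₁ l.1.1.fA l.1.1.gB)) (T.presheaf.map (homOfLE hT).op s)
        rw [hψ₁, show p₁ k.1.1.fA k.1.1.gB (ψ k s) = (ψ k ≫ CommRingCat.ofHom (p₁ k.1.1.fA k.1.1.gB)) s from rfl, hψ₁,
          ← CommRingCat.comp_apply, ← CommRingCat.comp_apply, Scheme.Hom.appLE_map, Scheme.Hom.map_appLE]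
      · show Y.presheaf.map (homOfLE h.2).op (p₂ k.1.1.fA k.1.1.gB (ψ k s)) =
          (ψ l ≫ CommRingCat.ofHom (p₂ l.1.1.fA l.1.1.gB)) (T.presheaf.map (homOfLE hT).op s)
        rw [hψ₂, show p₂ k.1.1.fA k.1.1.gB (ψ k s) = (ψ k ≫ CommRingCat.ofHom (p₂ k.1.1.fA k.1.1.gB)) s from rfl, hψ₂,
          ← CommRingCat.comp_apply, ← CommRingCat.comp_apply, Scheme.Hom.appLE_map, Scheme.Hom.map_appLE]
    simp only [m₀]
    rw [← Category.assoc, ← Spec.map_comp, e, Spec.map_comp, Category.assoc, k.1.2.2.map_fromSpec l.1.2.2]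
  obtain ⟨m, hm⟩ := exists_glue O hcov (fun k => (incl k.1.1).isoOpensRange.inv ≫ m₀ k) (by
    rintro k l p ⟨q, hq⟩ ⟨q', hq'⟩
    obtain ⟨τ, h₁, h₂, s, rfl, rfl⟩ := incl_eq_iff (hq.trans hq'.symm)
    obtain ⟨t, ht, hin⟩ := point τ s
    have htk : t ∈ k.1.2.1 := hin _ (h₁.1.trans k.2.1) (h₁.2.trans k.2.2)
    have htl : t ∈ l.1.2.1 := hin _ (h₂.1.trans l.2.1) (h₂.2.trans l.2.2)
    obtain ⟨T', hT', htT', hT'le⟩ := exists_isAffineOpen_mem_and_subset (x := t)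
      (U := k.1.2.1 ⊓ l.1.2.1) ⟨htk, htl⟩
    obtain ⟨σ, h, e₁, e₂, u, rfl⟩ := adapted τ s T' (ht T' htT')
    let n : K := ⟨(σ, ⟨T', hT'⟩), e₁, e₂⟩
    have hsub : ∀ (k : K) (h : σ ≤ k.1.1), (incl σ).opensRange ≤ O k := fun k h => by
      rintro _ ⟨v, rfl⟩
      exact ⟨Pair.chartMap h v, by rw [← Scheme.Hom.comp_apply, chartMap_incl]⟩
    have e : ∀ (k : K) (h : σ ≤ k.1.1), (T' ≤ k.1.2.1) →
        (P i j).homOfLE (hsub k h) ≫ (incl k.1.1).isoOpensRange.inv ≫ m₀ k =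
          (incl σ).isoOpensRange.inv ≫ m₀ n := fun k h hT => by
      have e0 : (P i j).homOfLE (hsub k h) ≫ (incl k.1.1).isoOpensRange.inv =
          (incl σ).isoOpensRange.inv ≫ Pair.chartMap h := by
        rw [← cancel_mono (incl k.1.1), Category.assoc, Category.assoc, chartMap_incl,
          Scheme.Hom.isoOpensRange_inv_comp, Scheme.Hom.isoOpensRange_inv_comp]
        exact Scheme.homOfLE_ι _ _
      rw [← Category.assoc, e0, Category.assoc, nat k n h hT]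
    refine ⟨(incl σ).opensRange, hsub k (h.trans h₁), hsub l (h.trans h₂), ⟨u, ?_⟩, ?_⟩
    · rw [← hq, ← Scheme.Hom.comp_apply, ← Scheme.Hom.comp_apply, chartMap_incl, chartMap_incl]
    · rw [e k (h.trans h₁) (fun v hv => (hT'le hv).1), e l (h.trans h₂) (fun v hv => (hT'le hv).2)])
  have hincl : ∀ k : K, incl k.1.1 ≫ m = m₀ k := fun k => by
    have h := congrArg (fun f => (incl k.1.1).isoOpensRange.hom ≫ f) (hm k)
    simpa [O, Scheme.Hom.isoOpensRange_hom_ι_assoc] using h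
  have cover : ∀ (π : Pair i j) (p : π.chart), ∃ k : K, ∃ h : k.1.1 ≤ π, p ∈ Set.range (Pair.chartMap h) := by
    intro π q
    obtain ⟨t, ht, -⟩ := point π q
    obtain ⟨T', hT', htT', -⟩ := exists_isAffineOpen_mem_and_subset (x := t) (U := (⊤ : T.Opens)) trivial
    obtain ⟨σ, h, h₁, h₂, hs⟩ := adapted π q T' (ht T' htT')
    exact ⟨⟨(σ, ⟨T', hT'⟩), h₁, h₂⟩, h, hs⟩
  refine ⟨m, Scheme.hom_ext_of_forall _ _ fun x => ?_, Scheme.hom_ext_of_forall _ _ fun y => ?_⟩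
  · obtain ⟨π, hx⟩ := H.1 x
    obtain ⟨z, rfl⟩ : x ∈ Set.range π.hU.fromSpec := π.hU.range_fromSpec.symm ▸ hx
    obtain ⟨k, h, v, hv⟩ := cover π (π.sA z)
    refine ⟨k.1.1.U, (Pair.mem_of_over h v).1 z hv.symm, ?_⟩
    rw [← cancel_epi k.1.1.hU.isoSpec.inv, IsAffineOpen.isoSpec_inv_ι_assoc, IsAffineOpen.isoSpec_inv_ι_assoc,
      ← Category.assoc, fromSpec_aMap, Category.assoc, hincl]
    simp only [m₀]
    rw [← Category.assoc, ← Spec.map_comp, hψ₁, k.1.2.2.SpecMap_appLE_fromSpec g₁ k.1.1.hU]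
  · obtain ⟨π, hy⟩ := H.2 y
    obtain ⟨z, rfl⟩ : y ∈ Set.range π.hV.fromSpec := π.hV.range_fromSpec.symm ▸ hy
    obtain ⟨k, h, v, hv⟩ := cover π (π.sB z)
    refine ⟨k.1.1.V, (Pair.mem_of_over h v).2 z hv.symm, ?_⟩
    rw [← cancel_epi k.1.1.hV.isoSpec.inv, IsAffineOpen.isoSpec_inv_ι_assoc, IsAffineOpen.isoSpec_inv_ι_assoc,
      ← Category.assoc, fromSpec_bMap, Category.assoc, hincl]
    simp only [m₀]
    rw [← Category.assoc, ← Spec.map_comp, hψ₂, k.1.2.2.SpecMap_appLE_fromSpec g₂ k.1.1.hV]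

include H in
lemma desc_unique {m m' : P i j ⟶ T} (h₁ : aMap H ≫ m = aMap H ≫ m') (h₂ : bMap H ≫ m = bMap H ≫ m') :
    m = m' := by
  have hpt : ∀ p, m p = m' p := fun p => by
    rcases jointly_surjective H p with ⟨x, rfl⟩ | ⟨y, rfl⟩
    · rw [← Scheme.Hom.comp_apply, h₁, Scheme.Hom.comp_apply]
    · rw [← Scheme.Hom.comp_apply, h₂, Scheme.Hom.comp_apply]
  refine Scheme.hom_ext_of_forall m m' fun p => ?_
  obtain ⟨π, q, rfl⟩ := exists_incl p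
  obtain ⟨T', hT', htT', -⟩ := exists_isAffineOpen_mem_and_subset (x := m (incl π q)) (U := (⊤ : T.Opens)) trivial
  obtain ⟨r, hr, hrU, hrV⟩ := π.exists_basic (U₀ := aMap H ⁻¹ᵁ (m ⁻¹ᵁ T')) (V₀ := bMap H ⁻¹ᵁ (m ⁻¹ᵁ T'))
    (by rw [← Scheme.Hom.comp_preimage i, ← Scheme.Hom.comp_preimage j, w H]) (p := q) (by
      rcases π.exists_over q with ⟨x, hx, -⟩ | ⟨y, hy, -⟩
      · exact Or.inl ⟨x, hx, by
          show m (aMap H (π.hU.fromSpec x)) ∈ T'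
          rw [aMap_fromSpec_apply, hx]; exact htT'⟩
      · exact Or.inr ⟨y, hy, by
          show m (bMap H (π.hV.fromSpec y)) ∈ T'
          rw [bMap_fromSpec_apply, hy]; exact htT'⟩)
  have hσ : π.restrict r ≤ π := π.restrict_le r
  set σ := π.restrict r with hσdef
  have hin : ∀ u : σ.chart, m (incl σ u) ∈ T' := by
    intro u
    rcases σ.exists_over u with ⟨x, hx, hxU⟩ | ⟨y, hy, hyV⟩
    · rw [← hx, ← aMap_fromSpec_apply H]; exact hrU hxU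
    · rw [← hy, ← bMap_fromSpec_apply H]; exact hrV hyV
  have hr1 : Set.range (incl σ ≫ m) ⊆ Set.range hT'.fromSpec := by
    rintro _ ⟨u, rfl⟩; rw [hT'.range_fromSpec]; exact hin u
  have hr2 : Set.range (incl σ ≫ m') ⊆ Set.range hT'.fromSpec := by
    rintro _ ⟨u, rfl⟩; rw [hT'.range_fromSpec, Scheme.Hom.comp_apply, ← hpt]; exact hin u
  obtain ⟨ψ, hψ⟩ : ∃ ψ, Spec.map ψ = IsOpenImmersion.lift hT'.fromSpec (incl σ ≫ m) hr1 := ⟨_, Spec.map_preimage _⟩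
  obtain ⟨ψ', hψ'⟩ : ∃ ψ, Spec.map ψ = IsOpenImmersion.lift hT'.fromSpec (incl σ ≫ m') hr2 := ⟨_, Spec.map_preimage _⟩
  have e : ψ = ψ' := by
    have eA : σ.sA ≫ Spec.map ψ = σ.sA ≫ Spec.map ψ' := by
      rw [hψ, hψ', ← cancel_mono hT'.fromSpec, Category.assoc, Category.assoc, IsOpenImmersion.lift_fac,
        IsOpenImmersion.lift_fac, ← Category.assoc, ← Category.assoc, ← fromSpec_aMap H, Category.assoc,
        Category.assoc, h₁]
    have eB : σ.sB ≫ Spec.map ψ = σ.sB ≫ Spec.map ψ' := by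
      rw [hψ, hψ', ← cancel_mono hT'.fromSpec, Category.assoc, Category.assoc, IsOpenImmersion.lift_fac,
        IsOpenImmersion.lift_fac, ← Category.assoc, ← Category.assoc, ← fromSpec_bMap H, Category.assoc,
        Category.assoc, h₂]
    rw [← Spec.map_comp, ← Spec.map_comp] at eA eB
    exact CommRingCat.hom_ext (RingHom.ext fun s =>
      fib_ext (congr($(Spec.map_injective eA) s)) (congr($(Spec.map_injective eB) s)))
  obtain ⟨v, hv⟩ := (π.mem_range_restrict r q).2 hr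
  refine ⟨(incl σ).opensRange, ⟨v, by rw [← hv, ← Scheme.Hom.comp_apply, chartMap_incl]⟩, ?_⟩
  rw [← cancel_epi (incl σ).isoOpensRange.hom, ← Category.assoc, ← Category.assoc,
    Scheme.Hom.isoOpensRange_hom_ι, ← IsOpenImmersion.lift_fac hT'.fromSpec (incl σ ≫ m) hr1,
    ← IsOpenImmersion.lift_fac hT'.fromSpec (incl σ ≫ m') hr2, ← hψ, ← hψ', e]

end Desc

include H in
/-- The constructed square is a pushout of schemes. -/
theorem isPushout : IsPushout i j (aMap H) (bMap H) := by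
  refine ⟨⟨w H⟩, ⟨PushoutCocone.IsColimit.mk _
    (fun s => (exists_desc H s.inl s.inr s.condition).choose)
    (fun s => (exists_desc H s.inl s.inr s.condition).choose_spec.1)
    (fun s => (exists_desc H s.inl s.inr s.condition).choose_spec.2)
    fun s m h₁ h₂ => ?_⟩⟩
  have h := (exists_desc H s.inl s.inr s.condition).choose_spec
  exact desc_unique H (h₁.trans h.1.symm) (h₂.trans h.2.symm)

end Groth.Agent.Pinch2
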