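import Groth.Agent.Pinch2.Milnor
import Groth.Agent.EtAlg23.MilnorAlgebra
import Mathlib.RingTheory.RingHom.Etale

/-!
# Ring maps between fibre products of rings
-/

set_option autoImplicit false
set_option linter.style.haveILetI false
set_option backward.isDefEq.respectTransparency.types false

universe u

open CategoryTheory CategoryTheory.Limits TensorProduct

noncomputable section

namespace Groth.Agent.Pinch2

variable {R A B C R' A' B' C' : CommRingCat.{u}}

/-- A pushout along a surjection has the extended kernel as kernel. -/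
lemma mem_map_ker_of_isPushout {g : B ⟶ C} {β : B ⟶ B'} {γ : C ⟶ C'} {g' : B' ⟶ C'} (h : IsPushout g β γ g')
    (hg : Function.Surjective g) {y : B'} (hy : g' y = 0) : y ∈ (RingHom.ker g.hom).map β.hom := by
  let I := (RingHom.ker g.hom).map β.hom
  let u : C →+* B' ⧸ I := RingHom.liftOfSurjective g.hom hg
    ⟨(Ideal.Quotient.mk I).comp β.hom, fun k hk => Ideal.Quotient.eq_zero_iff_mem.2 (Ideal.mem_map_of_mem _ hk)⟩
  have hw : g ≫ CommRingCat.ofHom u = β ≫ CommRingCat.ofHom (Ideal.Quotient.mk I) :=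
    CommRingCat.hom_ext (RingHom.ext fun x =>
      RingHom.liftOfRightInverse_comp_apply g.hom _ (Function.rightInverse_surjInv hg)
        ⟨(Ideal.Quotient.mk I).comp β.hom, fun k hk => Ideal.Quotient.eq_zero_iff_mem.2 (Ideal.mem_map_of_mem _ hk)⟩ x)
  have h' := congr($(h.inr_desc (CommRingCat.ofHom u) (CommRingCat.ofHom (Ideal.Quotient.mk I)) hw) y)
  rw [CommRingCat.comp_apply, hy, map_zero] at h'
  exact Ideal.Quotient.eq_zero_iff_mem.1 h'.symm

/-- A quotient by the extended kernel is a pushout. -/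
lemma isPushout_of_surjective {φ : R ⟶ A} {ρ : R ⟶ R'} {ρA : A ⟶ A'} {φ' : R' ⟶ A'} (w : φ ≫ ρA = ρ ≫ φ')
    (hφ : Function.Surjective φ) (hφ' : Function.Surjective φ')
    (hker : ∀ r, φ' r = 0 → r ∈ (RingHom.ker φ.hom).map ρ.hom) : IsPushout φ ρ ρA φ' := by
  refine ⟨⟨w⟩, ⟨PushoutCocone.isColimitAux' _ fun s => ?_⟩⟩
  have hk : RingHom.ker φ'.hom ≤ RingHom.ker s.inr.hom := fun r hr => by
    refine (Ideal.map_le_iff_le_comap.2 (fun k hk => ?_)) (hker r hr)
    show s.inr (ρ k) = 0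
    rw [← CommRingCat.comp_apply, ← s.condition, CommRingCat.comp_apply, RingHom.mem_ker.1 hk, map_zero]
  let d : A' ⟶ s.pt := CommRingCat.ofHom (RingHom.liftOfSurjective φ'.hom hφ' ⟨s.inr.hom, hk⟩)
  have hd : φ' ≫ d = s.inr :=
    CommRingCat.hom_ext (RingHom.ext fun x => RingHom.liftOfRightInverse_comp_apply φ'.hom _ (Function.rightInverse_surjInv hφ') _ x)
  refine ⟨d, ?_, hd, fun {m} _ h₂ => ?_⟩
  · refine CommRingCat.hom_ext (RingHom.ext fun x => ?_)
    obtain ⟨r, rfl⟩ := hφ x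
    show d (ρA (φ r)) = s.inl (φ r)
    rw [← CommRingCat.comp_apply φ, w, CommRingCat.comp_apply, ← CommRingCat.comp_apply φ', hd,
      ← CommRingCat.comp_apply, ← s.condition, CommRingCat.comp_apply]
  · refine CommRingCat.hom_ext (RingHom.ext fun x => ?_)
    obtain ⟨r, rfl⟩ := hφ' x
    exact congr($(h₂.trans hd.symm) r)

/-- A morphism of fibre product squares of surjections which is cartesian on the second factor is
cocartesian on the first projection. -/
lemma FibProp.isPushout_fst {φa : R ⟶ A} {φb : R ⟶ B} {f : A ⟶ C} {g : B ⟶ C}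
    {φa' : R' ⟶ A'} {φb' : R' ⟶ B'} {f' : A' ⟶ C'} {g' : B' ⟶ C'}
    {ρ : R ⟶ R'} {α : A ⟶ A'} {β : B ⟶ B'} {γ : C ⟶ C'}
    (h : FibProp φa φb f g) (h' : FibProp φa' φb' f' g') (hw' : φa' ≫ f' = φb' ≫ g')
    (ha : φa ≫ α = ρ ≫ φa') (hb : φb ≫ β = ρ ≫ φb') (hgC : IsPushout g β γ g')
    (hg : Function.Surjective g) (hφa : Function.Surjective φa) (hφa' : Function.Surjective φa')
    (hφb' : Function.Surjective φb') : IsPushout φa ρ α φa' := by
  refine isPushout_of_surjective ha hφa hφa' fun r hr => ?_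
  let I := (RingHom.ker φa.hom).map ρ.hom
  have hy : g' (φb' r) = 0 := by
    rw [← CommRingCat.comp_apply, ← hw', CommRingCat.comp_apply, hr, map_zero]
  obtain ⟨r₁, hr₁, hr₁b⟩ : ∃ r₁ ∈ I, φb' r₁ = φb' r := by
    have hmem := mem_map_ker_of_isPushout hgC hg hy
    have hle : (RingHom.ker g.hom).map β.hom ≤ I.map φb'.hom := by
      refine Ideal.map_le_iff_le_comap.2 fun k hk => ?_
      obtain ⟨s, hs₁, hs₂⟩ := h.2 0 k (by rw [map_zero]; exact (RingHom.mem_ker.1 hk).symm)
      show β k ∈ (I.map φb'.hom : Ideal B')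
      rw [← hs₂, ← CommRingCat.comp_apply, hb, CommRingCat.comp_apply]
      exact Ideal.mem_map_of_mem _ (Ideal.mem_map_of_mem _ hs₁)
    obtain ⟨r₁, hr₁, he⟩ := (Ideal.mem_map_iff_of_surjective _ hφb').1 (hle hmem)
    exact ⟨r₁, hr₁, he⟩
  have ha₁ : φa' r₁ = 0 := by
    refine (Ideal.map_le_iff_le_comap.2 (fun k hk => ?_) : I ≤ RingHom.ker φa'.hom) hr₁
    show φa' (ρ k) = 0
    rw [← CommRingCat.comp_apply, ← ha, CommRingCat.comp_apply, RingHom.mem_ker.1 hk, map_zero]
  rwa [h'.1 r r₁ (hr.trans ha₁.symm) hr₁b.symm]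

/-- Base change of a ring map along a pushout square. -/
lemma of_isPushout {Q : ∀ {R S : Type u} [CommRing R] [CommRing S], (R →+* S) → Prop}
    (hQ : RingHom.IsStableUnderBaseChange Q) {φ : R ⟶ A} {ρ : R ⟶ R'} {α : A ⟶ A'} {φ' : R' ⟶ A'}
    (h : IsPushout φ ρ α φ') (hρ : Q ρ.hom) : Q α.hom := by
  algebraize [φ.hom, ρ.hom, α.hom, φ'.hom, α.hom.comp φ.hom]
  haveI : IsScalarTower R R' A' := IsScalarTower.of_algebraMap_eq' congr($(h.w).hom)
  haveI : Algebra.IsPushout R A R' A' := (CommRingCat.isPushout_iff_isPushout (R := R) (R' := A) (S := R') (S' := A')).1 h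
  haveI : Algebra.IsPushout R R' A A' := Algebra.IsPushout.symm ‹_›
  exact hQ R R' A A' hρ

/-- Finite type, flatness, finite presentation, smoothness and étaleness are detected on the factors. -/
theorem FibProp.descend {φa : R ⟶ A} {φb : R ⟶ B} {f : A ⟶ C} {g : B ⟶ C} (hw : φa ≫ f = φb ≫ g)
    (h : FibProp φa φb f g) (hf : Function.Surjective f)
    {φa' : R' ⟶ A'} {φb' : R' ⟶ B'} {ρ : R ⟶ R'} {α : A ⟶ A'} {β : B ⟶ B'}
    (pA : IsPushout φa ρ α φa') (pB : IsPushout φb ρ β φb') :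
    (α.hom.FiniteType → β.hom.FiniteType → ρ.hom.FiniteType) ∧
    (α.hom.Flat → β.hom.Flat → ρ.hom.Flat) ∧
    (α.hom.Flat → β.hom.Flat → α.hom.FinitePresentation → β.hom.FinitePresentation → ρ.hom.FinitePresentation) ∧
    (α.hom.Smooth → β.hom.Smooth → ρ.hom.Smooth) ∧
    (α.hom.Etale → β.hom.Etale → ρ.hom.Etale) := by
  algebraize [φa.hom, φb.hom, f.hom, g.hom, f.hom.comp φa.hom, ρ.hom, α.hom, β.hom, φa'.hom, φb'.hom,
    α.hom.comp φa.hom, β.hom.comp φb.hom]
  haveI : IsScalarTower R B C := IsScalarTower.of_algebraMap_eq' congr($(hw).hom)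
  have hsq : EtMil.IsFibreSquare R B A C := ⟨hf, fun y x hxy => by
    obtain ⟨s, h₁, h₂⟩ := h.2 x y hxy.symm
    exact ⟨s, ⟨h₂, h₁⟩, fun t ht => h.1 t s (ht.2.trans h₁.symm) (ht.1.trans h₂.symm)⟩⟩
  haveI : IsScalarTower R R' A' := IsScalarTower.of_algebraMap_eq' congr($(pA.w).hom)
  haveI : IsScalarTower R R' B' := IsScalarTower.of_algebraMap_eq' congr($(pB.w).hom)
  haveI : Algebra.IsPushout R A R' A' := (CommRingCat.isPushout_iff_isPushout (R := R) (R' := A) (S := R') (S' := A')).1 pA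
  haveI : Algebra.IsPushout R B R' B' := (CommRingCat.isPushout_iff_isPushout (R := R) (R' := B) (S := R') (S' := B')).1 pB
  let eA : A ⊗[R] R' ≃ₐ[A] A' := Algebra.IsPushout.equiv R A R' A'
  let eB : B ⊗[R] R' ≃ₐ[B] B' := Algebra.IsPushout.equiv R B R' B'
  have hflat : α.hom.Flat → β.hom.Flat → ρ.hom.Flat := fun ha hb => by
    haveI : Module.Flat A A' := ha
    haveI : Module.Flat B B' := hb
    haveI : Module.Flat A (A ⊗[R] R') := Module.Flat.of_linearEquiv eA.toLinearEquiv
    haveI : Module.Flat B (B ⊗[R] R') := Module.Flat.of_linearEquiv eB.toLinearEquiv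
    exact Glue24.Milnor.flat (L' := R') hsq
  refine ⟨fun ha hb => ?_, hflat, fun h₁ h₂ ha hb => ?_, fun ha hb => ?_, fun ha hb => ?_⟩
  · haveI : Algebra.FiniteType A A' := ha
    haveI : Algebra.FiniteType B B' := hb
    haveI : Algebra.FiniteType A (A ⊗[R] R') := Algebra.FiniteType.equiv ‹_› eA.symm
    haveI : Algebra.FiniteType B (B ⊗[R] R') := Algebra.FiniteType.equiv ‹_› eB.symm
    exact EtAlg23.finiteType_of_square hsq
  · haveI : Module.Flat R R' := hflat h₁ h₂
    haveI : Algebra.FinitePresentation A A' := ha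
    haveI : Algebra.FinitePresentation B B' := hb
    haveI : Algebra.FinitePresentation A (A ⊗[R] R') := Algebra.FinitePresentation.equiv eA.symm
    haveI : Algebra.FinitePresentation B (B ⊗[R] R') := Algebra.FinitePresentation.equiv eB.symm
    exact EtAlg23.finitePresentation_of_square hsq
  · haveI : Algebra.Smooth A A' := RingHom.smooth_algebraMap.1 ha
    haveI : Algebra.Smooth B B' := RingHom.smooth_algebraMap.1 hb
    haveI : Module.Flat R R' := hflat (RingHom.flat_algebraMap_iff.2 inferInstance) (RingHom.flat_algebraMap_iff.2 inferInstance)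
    haveI : Algebra.Smooth A (A ⊗[R] R') := Algebra.Smooth.of_equiv eA.symm
    haveI : Algebra.Smooth B (B ⊗[R] R') := Algebra.Smooth.of_equiv eB.symm
    exact RingHom.smooth_algebraMap.2 (EtAlg23.smooth_of_square hsq)
  · haveI : Algebra.Etale A A' := RingHom.etale_algebraMap.1 ha
    haveI : Algebra.Etale B B' := RingHom.etale_algebraMap.1 hb
    haveI : Module.Flat R R' := hflat (RingHom.flat_algebraMap_iff.2 inferInstance) (RingHom.flat_algebraMap_iff.2 inferInstance)
    haveI : Algebra.Etale A (A ⊗[R] R') := Algebra.Etale.of_equiv eA.symm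
    haveI : Algebra.Etale B (B ⊗[R] R') := Algebra.Etale.of_equiv eB.symm
    exact RingHom.etale_algebraMap.2 (EtAlg23.etale_of_square hsq)

end Groth.Agent.Pinch2
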