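import Groth.Agent.Pinch2.Base
import Mathlib.AlgebraicGeometry.Morphisms.Flat
import Mathlib.RingTheory.TensorProduct.IsBaseChangePi
import Mathlib.RingTheory.Flat.Tensor

/-!
# Squares of schemes which are affine-locally fibre product squares of rings
-/

set_option autoImplicit false
set_option backward.isDefEq.respectTransparency.types false

universe u

open CategoryTheory CategoryTheory.Limits AlgebraicGeometry TopologicalSpace TensorProduct

noncomputable section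

namespace Groth.Agent.Pinch2

section Ring

variable {R₀ L R A B C R' A' B' C' : CommRingCat.{u}}

/-- `R` is the fibre product `A ×_C B`. -/
def FibProp (φa : R ⟶ A) (φb : R ⟶ B) (f : A ⟶ C) (g : B ⟶ C) : Prop :=
  (∀ s t : R, φa s = φa t → φb s = φb t → s = t) ∧ ∀ x y, f x = g y → ∃ s, φa s = x ∧ φb s = y

/-- Conditions under which a fibre product survives a base change along `ψ`. -/
def Good (ψ : R₀ ⟶ L) (σ : R₀ ⟶ C) (g : B ⟶ C) : Prop :=
  ψ.hom.Flat ∨ σ.hom.Flat ∨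
    (Function.Injective g ∧
      letI := σ.hom.toAlgebra
      Module.Flat R₀ (C ⧸ Submodule.span R₀ (Set.range g)))

/-- Base change of a fibre product of rings. -/
theorem FibProp.baseChange {ψ : R₀ ⟶ L} {ρ : R₀ ⟶ R} {φa : R ⟶ A} {φb : R ⟶ B} {f : A ⟶ C} {g : B ⟶ C}
    (hw : φa ≫ f = φb ≫ g) (h : FibProp φa φb f g) (hf : Function.Surjective f)
    (hgood : Good ψ (ρ ≫ φb ≫ g) g)
    {φa' : R' ⟶ A'} {φb' : R' ⟶ B'} {f' : A' ⟶ C'} {g' : B' ⟶ C'}
    {cR : R ⟶ R'} {cA : A ⟶ A'} {cB : B ⟶ B'} {cC : C ⟶ C'}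
    {ρR : L ⟶ R'} {ρA : L ⟶ A'} {ρB : L ⟶ B'} {ρC : L ⟶ C'}
    (sR : IsPushout ρ ψ cR ρR) (sA : IsPushout (ρ ≫ φa) ψ cA ρA)
    (sB : IsPushout (ρ ≫ φb) ψ cB ρB) (sC : IsPushout (ρ ≫ φb ≫ g) ψ cC ρC)
    (ea : cR ≫ φa' = φa ≫ cA) (eb : cR ≫ φb' = φb ≫ cB) (ef : cA ≫ f' = f ≫ cC) (eg : cB ≫ g' = g ≫ cC)
    (la : ρR ≫ φa' = ρA) (lb : ρR ≫ φb' = ρB) (lf : ρA ≫ f' = ρC) (lg : ρB ≫ g' = ρC) :
    FibProp φa' φb' f' g' := by
  letI := ψ.hom.toAlgebra
  letI := ρ.hom.toAlgebra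
  letI := (ρ ≫ φa).hom.toAlgebra
  letI := (ρ ≫ φb).hom.toAlgebra
  letI := (ρ ≫ φb ≫ g).hom.toAlgebra
  letI := cR.hom.toAlgebra
  letI := cA.hom.toAlgebra
  letI := cB.hom.toAlgebra
  letI := cC.hom.toAlgebra
  letI := ρR.hom.toAlgebra
  letI := ρA.hom.toAlgebra
  letI := ρB.hom.toAlgebra
  letI := ρC.hom.toAlgebra
  letI : Algebra R₀ R' := (ρ ≫ cR).hom.toAlgebra
  letI : Algebra R₀ A' := ((ρ ≫ φa) ≫ cA).hom.toAlgebra
  letI : Algebra R₀ B' := ((ρ ≫ φb) ≫ cB).hom.toAlgebra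
  letI : Algebra R₀ C' := ((ρ ≫ φb ≫ g) ≫ cC).hom.toAlgebra
  haveI : IsScalarTower R₀ R R' := IsScalarTower.of_algebraMap_eq fun _ => rfl
  haveI : IsScalarTower R₀ A A' := IsScalarTower.of_algebraMap_eq fun _ => rfl
  haveI : IsScalarTower R₀ B B' := IsScalarTower.of_algebraMap_eq fun _ => rfl
  haveI : IsScalarTower R₀ C C' := IsScalarTower.of_algebraMap_eq fun _ => rfl
  haveI : IsScalarTower R₀ L R' := IsScalarTower.of_algebraMap_eq' congr($(sR.w).hom)
  haveI : IsScalarTower R₀ L A' := IsScalarTower.of_algebraMap_eq' congr($(sA.w).hom)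
  haveI : IsScalarTower R₀ L B' := IsScalarTower.of_algebraMap_eq' congr($(sB.w).hom)
  haveI : IsScalarTower R₀ L C' := IsScalarTower.of_algebraMap_eq' congr($(sC.w).hom)
  haveI := (CommRingCat.isPushout_iff_isPushout (R := R₀) (R' := R) (S := L) (S' := R')).1 sR
  haveI := (CommRingCat.isPushout_iff_isPushout (R := R₀) (R' := A) (S := L) (S' := A')).1 sA
  haveI := (CommRingCat.isPushout_iff_isPushout (R := R₀) (R' := B) (S := L) (S' := B')).1 sB
  haveI := (CommRingCat.isPushout_iff_isPushout (R := R₀) (R' := C) (S := L) (S' := C')).1 sC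
  let αR := (IsScalarTower.toAlgHom R₀ R R').toLinearMap
  let αA := (IsScalarTower.toAlgHom R₀ A A').toLinearMap
  let αB := (IsScalarTower.toAlgHom R₀ B B').toLinearMap
  let αC := (IsScalarTower.toAlgHom R₀ C C').toLinearMap
  have bR : IsBaseChange L αR := (Algebra.IsPushout.symm (inferInstance : Algebra.IsPushout R₀ R L R')).out
  have bA : IsBaseChange L αA := (Algebra.IsPushout.symm (inferInstance : Algebra.IsPushout R₀ A L A')).out
  have bB : IsBaseChange L αB := (Algebra.IsPushout.symm (inferInstance : Algebra.IsPushout R₀ B L B')).out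
  have bC : IsBaseChange L αC := (Algebra.IsPushout.symm (inferInstance : Algebra.IsPushout R₀ C L C')).out
  have hρC : ρ ≫ φb ≫ g = ρ ≫ φa ≫ f := by rw [hw]
  let la₀ : R →ₗ[R₀] A := { φa.hom with map_smul' := fun r x => φa.hom.map_mul (ρ r) x }
  let lb₀ : R →ₗ[R₀] B := { φb.hom with map_smul' := fun r x => φb.hom.map_mul (ρ r) x }
  let lf₀ : A →ₗ[R₀] C := { f.hom with
    map_smul' := fun r x => by
      show f (φa (ρ r) * x) = g (φb (ρ r)) * f x
      rw [map_mul, ← CommRingCat.comp_apply φa f, hw]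
      rfl }
  let lg₀ : B →ₗ[R₀] C := { g.hom with map_smul' := fun r x => g.hom.map_mul (φb (ρ r)) x }
  let la₁ : R' →ₗ[L] A' := { φa'.hom with
    map_smul' := fun l x => (φa'.hom.map_mul (ρR l) x).trans (congrArg (· * φa' x) congr($la l)) }
  let lb₁ : R' →ₗ[L] B' := { φb'.hom with
    map_smul' := fun l x => (φb'.hom.map_mul (ρR l) x).trans (congrArg (· * φb' x) congr($lb l)) }
  let lf₁ : A' →ₗ[L] C' := { f'.hom with
    map_smul' := fun l x => (f'.hom.map_mul (ρA l) x).trans (congrArg (· * f' x) congr($lf l)) }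
  let lg₁ : B' →ₗ[L] C' := { g'.hom with
    map_smul' := fun l x => (g'.hom.map_mul (ρB l) x).trans (congrArg (· * g' x) congr($lg l)) }
  let u := la₀.prod lb₀
  let v := lf₀ ∘ₗ LinearMap.fst R₀ A B - lg₀ ∘ₗ LinearMap.snd R₀ A B
  let u' := la₁.prod lb₁
  let v' := lf₁ ∘ₗ LinearMap.fst L A' B' - lg₁ ∘ₗ LinearMap.snd L A' B'
  have hu : Function.Injective u := fun s t hst => h.1 s t (congrArg Prod.fst hst) (congrArg Prod.snd hst)
  have huv : Function.Exact u v := fun p => by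
    refine ⟨fun hp => ?_, ?_⟩
    · obtain ⟨s, h₁, h₂⟩ := h.2 p.1 p.2 (sub_eq_zero.1 hp)
      exact ⟨s, Prod.ext h₁ h₂⟩
    · rintro ⟨s, rfl⟩
      exact sub_eq_zero.2 congr($hw s)
  have hv : Function.Surjective v := fun c => by
    obtain ⟨x, hx⟩ := hf c
    exact ⟨(x, 0), show f x - g 0 = c by rw [map_zero, sub_zero, hx]⟩
  have hinj : Function.Injective (u.lTensor L) := by
    rcases hgood with hL | hC | ⟨hg, hQ⟩
    · haveI : Module.Flat R₀ L := hL
      exact Module.Flat.lTensor_preserves_injective_linearMap u hu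
    · haveI : Module.Flat R₀ C := hC
      exact LinearMap.lTensor_injective_of_exact_of_flat v hv u hu huv L
    · let q := (Submodule.span R₀ (Set.range g)).mkQ ∘ₗ lf₀
      have hsp : Submodule.span R₀ (Set.range g) = LinearMap.range lg₀ :=
        Submodule.span_eq (LinearMap.range lg₀)
      have hq : Function.Surjective q := (Submodule.mkQ_surjective _).comp hf
      have ha : Function.Injective la₀ := fun s t hst =>
        h.1 s t hst (hg ((congr($hw s)).symm.trans ((congrArg f hst).trans congr($hw t))))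
      have hex : Function.Exact la₀ q := fun x => by
        refine ⟨fun hx => ?_, ?_⟩
        · have hx' : f x ∈ Submodule.span R₀ (Set.range g) := (Submodule.Quotient.mk_eq_zero _).1 hx
          rw [hsp] at hx'
          obtain ⟨y, hy⟩ := hx'
          obtain ⟨s, h₁, -⟩ := h.2 x y hy.symm
          exact ⟨s, h₁⟩
        · rintro ⟨s, rfl⟩
          exact (Submodule.Quotient.mk_eq_zero _).2 (Submodule.subset_span ⟨φb s, (congr($hw s)).symm⟩)
      haveI : Module.Flat R₀ (C ⧸ Submodule.span R₀ (Set.range g)) := hQ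
      have hai : Function.Injective (la₀.lTensor L) :=
        LinearMap.lTensor_injective_of_exact_of_flat q hq la₀ ha hex L
      rw [show la₀ = LinearMap.fst R₀ A B ∘ₗ u from rfl, LinearMap.lTensor_comp, LinearMap.coe_comp] at hai
      exact hai.of_comp
  let eR := bR.equiv
  let e2 := (IsBaseChange.prodMap _ _ bA bB).equiv
  let eC := bC.equiv
  have c1 : u' ∘ₗ eR.toLinearMap = e2.toLinearMap ∘ₗ u.baseChange L := by
    refine TensorProduct.AlgebraTensorModule.curry_injective (LinearMap.ext_ring (LinearMap.ext fun r => ?_))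
    simp only [TensorProduct.AlgebraTensorModule.curry_apply, TensorProduct.curry_apply, LinearMap.coe_restrictScalars,
      LinearMap.comp_apply, LinearMap.baseChange_tmul, LinearEquiv.coe_coe, eR, e2, IsBaseChange.equiv_tmul, one_smul]
    exact Prod.ext congr($ea r) congr($eb r)
  have c2 : v' ∘ₗ e2.toLinearMap = eC.toLinearMap ∘ₗ v.baseChange L := by
    refine TensorProduct.AlgebraTensorModule.curry_injective (LinearMap.ext_ring (LinearMap.ext fun p => ?_))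
    simp only [TensorProduct.AlgebraTensorModule.curry_apply, TensorProduct.curry_apply, LinearMap.coe_restrictScalars,
      LinearMap.comp_apply, LinearMap.baseChange_tmul, LinearEquiv.coe_coe, eC, e2, IsBaseChange.equiv_tmul, one_smul]
    show f' (cA p.1) - g' (cB p.2) = cC (f p.1 - g p.2)
    rw [map_sub]
    exact congrArg₂ (· - ·) congr($ef p.1) congr($eg p.2)
  refine ⟨fun s t h₁ h₂ => ?_, fun x y hxy => ?_⟩
  · obtain ⟨s, rfl⟩ := eR.surjective s
    obtain ⟨t, rfl⟩ := eR.surjective t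
    have h3 : u' (eR s) = u' (eR t) := Prod.ext h₁ h₂
    have h4 : e2 (u.baseChange L s) = e2 (u.baseChange L t) :=
      (LinearMap.congr_fun c1 s).symm.trans (h3.trans (LinearMap.congr_fun c1 t))
    exact congrArg eR (hinj (by simpa only [LinearMap.baseChange_eq_ltensor] using e2.injective h4))
  · obtain ⟨z, hz⟩ := e2.surjective (x, y)
    have h5 : eC (v.baseChange L z) = 0 := by
      refine (LinearMap.congr_fun c2 z).symm.trans ?_
      show v' (e2 z) = 0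
      rw [hz]
      exact sub_eq_zero.2 hxy
    have h6 : v.lTensor L z = 0 := by
      rw [← LinearMap.baseChange_eq_ltensor]
      exact eC.injective (h5.trans (map_zero eC).symm)
    obtain ⟨w, hw'⟩ := (lTensor_exact L huv hv z).1 h6
    refine ⟨eR w, ?_⟩
    have h7 : u' (eR w) = (x, y) := by
      rw [← hz, ← hw', ← LinearMap.baseChange_eq_ltensor]
      exact LinearMap.congr_fun c1 w
    exact ⟨congrArg Prod.fst h7, congrArg Prod.snd h7⟩

/-- A fibre product along a surjection of algebras, all three flat, is flat. -/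
theorem FibProp.flat {ρ : R₀ ⟶ R} {φa : R ⟶ A} {φb : R ⟶ B} {f : A ⟶ C} {g : B ⟶ C}
    (hw : φa ≫ f = φb ≫ g) (h : FibProp φa φb f g) (hf : Function.Surjective f)
    (hA : (ρ ≫ φa).hom.Flat) (hB : (ρ ≫ φb).hom.Flat) (hC : (ρ ≫ φb ≫ g).hom.Flat) : ρ.hom.Flat := by
  letI := ρ.hom.toAlgebra
  letI := (ρ ≫ φa).hom.toAlgebra
  letI := (ρ ≫ φb).hom.toAlgebra
  letI := (ρ ≫ φb ≫ g).hom.toAlgebra
  haveI : Module.Flat R₀ A := hA
  haveI : Module.Flat R₀ B := hB
  haveI : Module.Flat R₀ C := hC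
  let la₀ : R →ₗ[R₀] A := { φa.hom with map_smul' := fun r x => φa.hom.map_mul (ρ r) x }
  let lb₀ : R →ₗ[R₀] B := { φb.hom with map_smul' := fun r x => φb.hom.map_mul (ρ r) x }
  let lf₀ : A →ₗ[R₀] C := { f.hom with
    map_smul' := fun r x => by
      show f (φa (ρ r) * x) = g (φb (ρ r)) * f x
      rw [map_mul, ← CommRingCat.comp_apply φa f, hw]
      rfl }
  let lg₀ : B →ₗ[R₀] C := { g.hom with map_smul' := fun r x => g.hom.map_mul (φb (ρ r)) x }
  refine Module.Flat.iff_rTensor_injective'.mpr fun I => ?_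
  let u := la₀.prod lb₀
  let v := lf₀ ∘ₗ LinearMap.fst R₀ A B - lg₀ ∘ₗ LinearMap.snd R₀ A B
  have hv : Function.Surjective v := fun c => by
    obtain ⟨x, hx⟩ := hf c
    exact ⟨(x, 0), show f x - g 0 = c by rw [map_zero, sub_zero, hx]⟩
  have hu : Function.Injective u := fun s t hst => h.1 s t (congrArg Prod.fst hst) (congrArg Prod.snd hst)
  have huv : Function.Exact u v := fun p => by
    refine ⟨fun hp => ?_, ?_⟩
    · obtain ⟨s, h₁, h₂⟩ := h.2 p.1 p.2 (sub_eq_zero.1 hp)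
      exact ⟨s, Prod.ext h₁ h₂⟩
    · rintro ⟨s, rfl⟩
      exact sub_eq_zero.2 congr($hw s)
  have h2 : Function.Injective (I.subtype.rTensor (A × B)) := by
    have e : (TensorProduct.prodRight R₀ R₀ R₀ A B).toLinearMap ∘ₗ I.subtype.rTensor (A × B) =
        (I.subtype.rTensor A).prodMap (I.subtype.rTensor B) ∘ₗ (TensorProduct.prodRight R₀ R₀ I A B).toLinearMap := by
      ext <;> simp
    refine Function.Injective.of_comp (f := TensorProduct.prodRight R₀ R₀ R₀ A B) ?_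
    show Function.Injective ((TensorProduct.prodRight R₀ R₀ R₀ A B).toLinearMap ∘ₗ I.subtype.rTensor (A × B))
    rw [e]
    exact (Function.Injective.prodMap (Module.Flat.rTensor_preserves_injective_linearMap _ I.injective_subtype)
      (Module.Flat.rTensor_preserves_injective_linearMap _ I.injective_subtype)).comp (LinearEquiv.injective _)
  have h3 : u.lTensor R₀ ∘ₗ I.subtype.rTensor R = I.subtype.rTensor (A × B) ∘ₗ u.lTensor I := by
    rw [LinearMap.lTensor_comp_rTensor, LinearMap.rTensor_comp_lTensor]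
  have h4 : Function.Injective (u.lTensor R₀ ∘ₗ I.subtype.rTensor R) := by
    rw [h3]; exact h2.comp (LinearMap.lTensor_injective_of_exact_of_flat v hv u hu huv I)
  exact Function.Injective.of_comp (f := u.lTensor R₀) h4

end Ring

section Scheme

variable {X Y Z P₀ S : Scheme.{u}}

lemma preimage_le {i : Z ⟶ X} {j : Z ⟶ Y} {a : X ⟶ P₀} {b : Y ⟶ P₀} (w : i ≫ a = j ≫ b) (V : P₀.Opens) :
    i ⁻¹ᵁ (a ⁻¹ᵁ V) = j ⁻¹ᵁ (b ⁻¹ᵁ V) := by
  rw [← Scheme.Hom.comp_preimage, ← Scheme.Hom.comp_preimage, w]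

/-- The functions on `V` are the fibre product of those on its preimages. -/
def FibAt (i : Z ⟶ X) (j : Z ⟶ Y) (a : X ⟶ P₀) (b : Y ⟶ P₀) (w : i ≫ a = j ≫ b) (V : P₀.Opens) : Prop :=
  FibProp (a.app V) (b.app V) (i.appLE (a ⁻¹ᵁ V) (i ⁻¹ᵁ (a ⁻¹ᵁ V)) le_rfl)
    (j.appLE (b ⁻¹ᵁ V) (i ⁻¹ᵁ (a ⁻¹ᵁ V)) (preimage_le w V).le)

variable {i : Z ⟶ X} {j : Z ⟶ Y} [IsClosedImmersion i]

lemma fibProp_chart (H : HasPairs i j) (π : Pair i j) (O : (P i j).Opens) (hO : O = (incl π).opensRange)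
    (hA : π.U ≤ aMap H ⁻¹ᵁ O) (hB : π.V ≤ bMap H ⁻¹ᵁ O) :
    FibProp ((aMap H).appLE O π.U hA) ((bMap H).appLE O π.V hB) (i.appLE π.U π.W le_rfl)
      (j.appLE π.V π.W π.hW.le) := by
  subst hO
  have hO := isAffineOpen_opensRange (incl π)
  let l := IsOpenImmersion.isoOfRangeEq (incl π) hO.fromSpec (by rw [hO.range_fromSpec]; rfl)
  have hl : l.hom ≫ hO.fromSpec = incl π := IsOpenImmersion.isoOfRangeEq_hom_fac _ _ _
  let e : Γ(P i j, (incl π).opensRange) ⟶ CommRingCat.of π.ring := Spec.preimage l.hom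
  have he : Spec.map e = l.hom := Spec.map_preimage _
  haveI : IsIso (Spec.map e) := by rw [he]; infer_instance
  haveI : IsIso e := ⟨Spec.preimage l.inv,
    Spec.map_injective (by rw [Spec.map_comp, he, Spec.map_preimage, Spec.map_id, l.inv_hom_id]),
    Spec.map_injective (by rw [Spec.map_comp, he, Spec.map_preimage, Spec.map_id, l.hom_inv_id])⟩
  have hA' : (aMap H).appLE _ π.U hA = e ≫ CommRingCat.ofHom (p₁ π.fA π.gB) := by
    refine Spec.map_injective ?_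
    rw [← cancel_mono hO.fromSpec, hO.SpecMap_appLE_fromSpec (aMap H) π.hU, Spec.map_comp, Category.assoc, he,
      hl, fromSpec_aMap]
  have hB' : (bMap H).appLE _ π.V hB = e ≫ CommRingCat.ofHom (p₂ π.fA π.gB) := by
    refine Spec.map_injective ?_
    rw [← cancel_mono hO.fromSpec, hO.SpecMap_appLE_fromSpec (bMap H) π.hV, Spec.map_comp, Category.assoc, he,
      hl, fromSpec_bMap]
  have hbij : Function.Bijective e := ConcreteCategory.bijective_of_isIso e
  rw [hA', hB']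
  refine ⟨fun s t h₁ h₂ => hbij.1 (fib_ext h₁ h₂), fun x y hxy => ?_⟩
  obtain ⟨s, hs⟩ := hbij.2 ⟨(x, y), hxy⟩
  exact ⟨s, congrArg (p₁ π.fA π.gB) hs, congrArg (p₂ π.fA π.gB) hs⟩

section Transfer

variable {a : X ⟶ P₀} {b : Y ⟶ P₀} (H : HasPairs i j) (hP : IsPushout i j a b)
include H hP

lemma isAffineHom_inl : IsAffineHom a := by
  obtain ⟨e, rfl, -⟩ := exists_iso H hP
  haveI := isAffineHom_aMap H
  infer_instance

lemma fibAt_of_isPushout {V : P₀.Opens} (hV : IsAffineOpen V) : FibAt i j a b hP.w V := by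
  haveI := isAffineHom_aMap H
  haveI := isClosedImmersion_bMap H
  obtain ⟨e, rfl, rfl⟩ := exists_iso H hP
  let V' := e.hom ⁻¹ᵁ V
  have hV' : IsAffineOpen V' := hV.preimage_of_isIso e.hom
  let π : Pair i j := ⟨aMap H ⁻¹ᵁ V', bMap H ⁻¹ᵁ V', hV'.preimage _, hV'.preimage _, preimage_le (w H) V'⟩
  have hO : V' = (incl π).opensRange := by
    ext p
    rcases jointly_surjective H p with ⟨x, rfl⟩ | ⟨y, rfl⟩
    · exact (SetLike.ext_iff.1 (preimage_aMap H π) x).symm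
    · exact (SetLike.ext_iff.1 (preimage_bMap H π) y).symm
  obtain ⟨h1, h2⟩ := fibProp_chart H π V' hO le_rfl le_rfl
  have hbij : Function.Bijective (e.hom.app V) := ConcreteCategory.bijective_of_isIso _
  have hA : (aMap H ≫ e.hom).app V = e.hom.app V ≫ (aMap H).appLE V' π.U le_rfl := by
    rw [Scheme.Hom.comp_app, ← Scheme.Hom.app_eq_appLE]
  have hB : (bMap H ≫ e.hom).app V = e.hom.app V ≫ (bMap H).appLE V' π.V le_rfl := by
    rw [Scheme.Hom.comp_app, ← Scheme.Hom.app_eq_appLE]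
  refine ⟨fun s t h₁ h₂ => hbij.1 (h1 _ _ ?_ ?_), fun x y hxy => ?_⟩
  · rw [hA] at h₁; exact h₁
  · rw [hB] at h₂; exact h₂
  · obtain ⟨s, h₁, h₂⟩ := h2 x y hxy
    obtain ⟨t, rfl⟩ := hbij.2 s
    exact ⟨t, by rw [hA]; exact h₁, by rw [hB]; exact h₂⟩

end Transfer

lemma hasPairs_of_cover {a : X ⟶ P₀} {b : Y ⟶ P₀} (w : i ≫ a = j ≫ b) [IsAffineHom a] [IsAffineHom b] :
    HasPairs i j := by
  refine hasPairs_of_forall fun y => ?_
  obtain ⟨V, hV, hyV, -⟩ := exists_isAffineOpen_mem_and_subset (x := b y) (U := (⊤ : P₀.Opens)) trivial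
  exact ⟨⟨a ⁻¹ᵁ V, b ⁻¹ᵁ V, hV.preimage a, hV.preimage b, preimage_le w V⟩, hyV⟩

/-- A square of schemes which is affine-locally a fibre product square of rings is a pushout. -/
theorem isPushout_of_cover {a : X ⟶ P₀} {b : Y ⟶ P₀} (w : i ≫ a = j ≫ b) [IsAffineHom a] [IsAffineHom b]
    (hs : ∀ p, (∃ x, a x = p) ∨ ∃ y, b y = p)
    (hc : ∀ p, ∃ V : P₀.Opens, IsAffineOpen V ∧ p ∈ V ∧ FibAt i j a b w V) : IsPushout i j a b := by
  have H := hasPairs_of_cover w
  obtain ⟨m, ha, hb⟩ := exists_desc H a b w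
  suffices IsIso m from IsPushout.of_iso (Groth.Agent.Pinch2.isPushout H) (Iso.refl _) (Iso.refl _) (Iso.refl _)
    (asIso m) (by simp) (by simp) (by simp [ha]) (by simp [hb])
  choose V hV hpV hfib using hc
  refine IsZariskiLocalAtTarget.of_iSup_eq_top (P := MorphismProperty.isomorphisms Scheme.{u}) V
    (eq_top_iff.2 fun p _ => Opens.mem_iSup.2 ⟨p, hpV p⟩) fun p => ?_
  let π : Pair i j := ⟨a ⁻¹ᵁ V p, b ⁻¹ᵁ V p, (hV p).preimage a, (hV p).preimage b, preimage_le w _⟩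
  have hO : m ⁻¹ᵁ V p = (incl π).opensRange := by
    ext q
    rcases jointly_surjective H q with ⟨x, rfl⟩ | ⟨y, rfl⟩
    · refine Iff.trans ?_ (SetLike.ext_iff.1 (preimage_aMap H π) x).symm
      show m (aMap H x) ∈ V p ↔ a x ∈ V p
      rw [← Scheme.Hom.comp_apply, ha]
    · refine Iff.trans ?_ (SetLike.ext_iff.1 (preimage_bMap H π) y).symm
      show m (bMap H y) ∈ V p ↔ b y ∈ V p
      rw [← Scheme.Hom.comp_apply, hb]
  have hr : Set.range (incl π ≫ m) ⊆ Set.range (hV p).fromSpec := by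
    rintro _ ⟨t, rfl⟩
    rw [(hV p).range_fromSpec]
    exact hO.ge ⟨t, rfl⟩
  obtain ⟨ψ, hψ⟩ : ∃ ψ, Spec.map ψ = IsOpenImmersion.lift (hV p).fromSpec (incl π ≫ m) hr := ⟨_, Spec.map_preimage _⟩
  have hl : Spec.map ψ ≫ (hV p).fromSpec = incl π ≫ m := by rw [hψ, IsOpenImmersion.lift_fac]
  have eA : ψ ≫ CommRingCat.ofHom (p₁ π.fA π.gB) = a.app (V p) := by
    refine Spec.map_injective ?_
    rw [← cancel_mono (hV p).fromSpec, Spec.map_comp, Category.assoc, hl, Scheme.Hom.app_eq_appLE,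
      (hV p).SpecMap_appLE_fromSpec a π.hU, ← Category.assoc, ← fromSpec_aMap H, Category.assoc, ha]
  have eB : ψ ≫ CommRingCat.ofHom (p₂ π.fA π.gB) = b.app (V p) := by
    refine Spec.map_injective ?_
    rw [← cancel_mono (hV p).fromSpec, Spec.map_comp, Category.assoc, hl, Scheme.Hom.app_eq_appLE,
      (hV p).SpecMap_appLE_fromSpec b π.hV, ← Category.assoc, ← fromSpec_bMap H, Category.assoc, hb]
  haveI : IsIso ψ := (ConcreteCategory.isIso_iff_bijective ψ).2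
    ⟨fun s t h => (hfib p).1 s t (by rw [← eA, CommRingCat.comp_apply, CommRingCat.comp_apply, h])
        (by rw [← eB, CommRingCat.comp_apply, CommRingCat.comp_apply, h]),
      fun r => by
        obtain ⟨s, h₁, h₂⟩ := (hfib p).2 (p₁ π.fA π.gB r) (p₂ π.fA π.gB r) (fib_w r)
        rw [← eA, CommRingCat.comp_apply] at h₁
        rw [← eB, CommRingCat.comp_apply] at h₂
        exact ⟨s, fib_ext h₁ h₂⟩⟩
  have e : (incl π).isoOpensRange.hom ≫ ((P i j).isoOfEq hO).inv ≫ (m ∣_ V p) =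
      Spec.map ψ ≫ (hV p).isoSpec.inv := by
    rw [← cancel_mono (V p).ι, Category.assoc, Category.assoc, Category.assoc, morphismRestrict_ι,
      Scheme.isoOfEq_inv_ι_assoc, Scheme.Hom.isoOpensRange_hom_ι_assoc, IsAffineOpen.isoSpec_inv_ι, hl]
  haveI : IsIso ((incl π).isoOpensRange.hom ≫ ((P i j).isoOfEq hO).inv ≫ (m ∣_ V p)) := by
    rw [e]; infer_instance
  haveI : IsIso (((P i j).isoOfEq hO).inv ≫ (m ∣_ V p)) := IsIso.of_isIso_comp_left (incl π).isoOpensRange.hom _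
  exact IsIso.of_isIso_comp_left ((P i j).isoOfEq hO).inv _

lemma flat_appLE {T : Scheme.{u}} (g : T ⟶ S) [Flat g] {U : S.Opens} {T₀ : T.Opens} (hU : IsAffineOpen U)
    (hT : IsAffineOpen T₀) (e : T₀ ≤ g ⁻¹ᵁ U) : (g.appLE U T₀ e).hom.Flat :=
  HasRingHomProperty.appLE (P := @Flat) g ‹_› ⟨U, hU⟩ ⟨T₀, hT⟩ e

section BaseChange

variable {T X' Y' Z' P' : Scheme.{u}} {a : X ⟶ P₀} {b : Y ⟶ P₀} (w : i ≫ a = j ≫ b)
  [IsAffineHom a] [IsAffineHom b] {r : P₀ ⟶ S} {g : T ⟶ S}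
  {pP : P' ⟶ P₀} {rT : P' ⟶ T} (hP : IsPullback pP rT r g)
  {pX : X' ⟶ X} {a' : X' ⟶ P'} (hX : IsPullback pX a' a pP)
  {pY : Y' ⟶ Y} {b' : Y' ⟶ P'} (hY : IsPullback pY b' b pP)
  {pZ : Z' ⟶ Z} {i' : Z' ⟶ X'} (hi : IsPullback pZ i' i pX)
  {j' : Z' ⟶ Y'} (hj : j' ≫ pY = pZ ≫ j) (w' : i' ≫ a' = j' ≫ b')

include hP hX hY hi hj in
/-- Base change of a fibre product over `V`. -/
theorem FibAt.baseChange {U : S.Opens} {V : P₀.Opens} {T₀ : T.Opens} (hU : IsAffineOpen U) (hV : IsAffineOpen V)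
    (hT : IsAffineOpen T₀) (eV : V ≤ r ⁻¹ᵁ U) (eT : T₀ ≤ g ⁻¹ᵁ U) (h : FibAt i j a b w V)
    (hgood : Good (g.appLE U T₀ eT)
      (r.appLE U V eV ≫ b.app V ≫ j.appLE (b ⁻¹ᵁ V) (i ⁻¹ᵁ (a ⁻¹ᵁ V)) (preimage_le w V).le)
      (j.appLE (b ⁻¹ᵁ V) (i ⁻¹ᵁ (a ⁻¹ᵁ V)) (preimage_le w V).le)) :
    IsAffineOpen (pP ⁻¹ᵁ V ⊓ rT ⁻¹ᵁ T₀) ∧ FibAt i' j' a' b' w' (pP ⁻¹ᵁ V ⊓ rT ⁻¹ᵁ T₀) := by
  haveI : IsAffine _ := hU
  haveI : IsAffine _ := hV
  haveI : IsAffine _ := hT
  set W := pP ⁻¹ᵁ V ⊓ rT ⁻¹ᵁ T₀ with hW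
  refine ⟨.of_isIso (Scheme.Hom.isPullback_resLE hP eT eV hW).isoPullback.hom, ?_⟩
  have hWX : a' ⁻¹ᵁ W = pX ⁻¹ᵁ (a ⁻¹ᵁ V) ⊓ (a' ≫ rT) ⁻¹ᵁ T₀ := by
    rw [hW, Scheme.Hom.preimage_inf, ← Scheme.Hom.comp_preimage, ← hX.w, Scheme.Hom.comp_preimage,
      Scheme.Hom.comp_preimage]
  have hWY : b' ⁻¹ᵁ W = pY ⁻¹ᵁ (b ⁻¹ᵁ V) ⊓ (b' ≫ rT) ⁻¹ᵁ T₀ := by
    rw [hW, Scheme.Hom.preimage_inf, ← Scheme.Hom.comp_preimage, ← hY.w, Scheme.Hom.comp_preimage,
      Scheme.Hom.comp_preimage]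
  have hWZ : i' ⁻¹ᵁ (a' ⁻¹ᵁ W) = pZ ⁻¹ᵁ (i ⁻¹ᵁ (a ⁻¹ᵁ V)) ⊓ (i' ≫ a' ≫ rT) ⁻¹ᵁ T₀ := by
    rw [hWX, Scheme.Hom.preimage_inf, ← Scheme.Hom.comp_preimage i' pX, ← hi.w, Scheme.Hom.comp_preimage,
      Scheme.Hom.comp_preimage i' (a' ≫ rT)]
  have eX : a ⁻¹ᵁ V ≤ (a ≫ r) ⁻¹ᵁ U := by rw [Scheme.Hom.comp_preimage]; exact a.preimage_mono eV
  have eY : b ⁻¹ᵁ V ≤ (b ≫ r) ⁻¹ᵁ U := by rw [Scheme.Hom.comp_preimage]; exact b.preimage_mono eV
  have eZ : i ⁻¹ᵁ (a ⁻¹ᵁ V) ≤ (i ≫ a ≫ r) ⁻¹ᵁ U := by rw [Scheme.Hom.comp_preimage]; exact i.preimage_mono eX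
  have HX := hX.paste_vert hP
  have HY := hY.paste_vert hP
  have HZ := hi.paste_vert HX
  have pushP := (isIso_pushoutSection_iff hP eT eV hW).1 (isIso_pushoutSection_of_isAffineOpen hP eT eV hW hU hT hV)
  have pushX := (isIso_pushoutSection_iff HX eT eX hWX).1
    (isIso_pushoutSection_of_isAffineOpen HX eT eX hWX hU hT (hV.preimage a))
  have pushY := (isIso_pushoutSection_iff HY eT eY hWY).1
    (isIso_pushoutSection_of_isAffineOpen HY eT eY hWY hU hT (hV.preimage b))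
  have pushZ := (isIso_pushoutSection_iff HZ eT eZ hWZ).1
    (isIso_pushoutSection_of_isAffineOpen HZ eT eZ hWZ hU hT ((hV.preimage a).preimage i))
  refine FibProp.baseChange (ψ := g.appLE U T₀ eT) (ρ := r.appLE U V eV)
    (by simp only [Scheme.Hom.app_eq_appLE, Scheme.Hom.appLE_comp_appLE, Category.assoc, w]) h
    (by rw [← Scheme.Hom.app_eq_appLE]; exact i.app_surjective _ (hV.preimage a)) hgood
    pushP
    (by convert pushX using 1; simp only [Scheme.Hom.app_eq_appLE, Scheme.Hom.appLE_comp_appLE, Category.assoc])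
    (by convert pushY using 1; simp only [Scheme.Hom.app_eq_appLE, Scheme.Hom.appLE_comp_appLE, Category.assoc])
    (by convert pushZ using 1; simp only [Scheme.Hom.app_eq_appLE, Scheme.Hom.appLE_comp_appLE, Category.assoc, ← w])
    ?_ ?_ ?_ ?_ ?_ ?_ ?_ ?_
  all_goals simp only [Scheme.Hom.app_eq_appLE, Scheme.Hom.appLE_comp_appLE, Category.assoc, hX.w, hY.w, hi.w, hj, w', reassoc_of% w']

include hP hX hY hi hj w' in
/-- Base change of a square which is locally a fibre product square. -/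
theorem isPushout_baseChange (hs : ∀ p, (∃ x, a x = p) ∨ ∃ y, b y = p)
    (hc : ∀ p, ∃ (U : S.Opens) (V : P₀.Opens) (_ : IsAffineOpen U) (_ : IsAffineOpen V) (eV : V ≤ r ⁻¹ᵁ U),
      p ∈ V ∧ FibAt i j a b w V ∧ ∀ (T₀ : T.Opens) (_ : IsAffineOpen T₀) (eT : T₀ ≤ g ⁻¹ᵁ U),
        Good (g.appLE U T₀ eT)
          (r.appLE U V eV ≫ b.app V ≫ j.appLE (b ⁻¹ᵁ V) (i ⁻¹ᵁ (a ⁻¹ᵁ V)) (preimage_le w V).le)
          (j.appLE (b ⁻¹ᵁ V) (i ⁻¹ᵁ (a ⁻¹ᵁ V)) (preimage_le w V).le)) :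
    IsPushout i' j' a' b' := by
  haveI : IsAffineHom a' := MorphismProperty.of_isPullback hX ‹_›
  haveI : IsAffineHom b' := MorphismProperty.of_isPullback hY ‹_›
  haveI : IsClosedImmersion i' := MorphismProperty.of_isPullback hi ‹_›
  refine isPushout_of_cover w' (fun p => ?_) fun p => ?_
  · rcases hs (pP p) with ⟨x, hx⟩ | ⟨y, hy⟩
    · obtain ⟨x', -, hx'⟩ := Scheme.Pullback.exists_preimage_pullback x p hx
      exact Or.inl ⟨hX.isoPullback.inv x', by
        rw [← Scheme.Hom.comp_apply, IsPullback.isoPullback_inv_snd, hx']⟩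
    · obtain ⟨y', -, hy'⟩ := Scheme.Pullback.exists_preimage_pullback y p hy
      exact Or.inr ⟨hY.isoPullback.inv y', by
        rw [← Scheme.Hom.comp_apply, IsPullback.isoPullback_inv_snd, hy']⟩
  · obtain ⟨U, V, hU, hV, eV, hpV, hfib, hgood⟩ := hc (pP p)
    obtain ⟨T₀, hT, hpT, eT⟩ := exists_isAffineOpen_mem_and_subset (x := rT p) (U := g ⁻¹ᵁ U) (by
      show g (rT p) ∈ U
      rw [← Scheme.Hom.comp_apply, ← hP.w, Scheme.Hom.comp_apply]
      exact eV hpV)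
    obtain ⟨h₁, h₂⟩ := FibAt.baseChange w hP hX hY hi hj w' hU hV hT eV eT hfib (hgood T₀ hT eT)
    exact ⟨_, h₁, ⟨hpV, hpT⟩, h₂⟩

include hP hX hY hi hj w' in
/-- A pushout along a closed immersion commutes with base change, if the base change is flat or the
glued locus is flat over the base. -/
theorem isPushout_baseChange_of_flat (H : HasPairs i j) (hpo : IsPushout i j a b)
    (hflat : Flat g ∨ Flat (i ≫ a ≫ r)) : IsPushout i' j' a' b' := by
  refine isPushout_baseChange hpo.w hP hX hY hi hj w' (jointly_surjective' H hpo) fun p => ?_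
  obtain ⟨U, hU, hpU, -⟩ := exists_isAffineOpen_mem_and_subset (x := r p) (U := (⊤ : S.Opens)) trivial
  obtain ⟨V, hV, hpV, eV⟩ := exists_isAffineOpen_mem_and_subset (x := p) (U := r ⁻¹ᵁ U) hpU
  refine ⟨U, V, hU, hV, eV, hpV, fibAt_of_isPushout H hpo hV, fun T₀ hT eT => ?_⟩
  rcases hflat with hg | hz
  · exact Or.inl (flat_appLE g hU hT eT)
  · refine Or.inr (Or.inl ?_)
    have eZ : i ⁻¹ᵁ (a ⁻¹ᵁ V) ≤ (i ≫ a ≫ r) ⁻¹ᵁ U := i.preimage_mono (a.preimage_mono eV)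
    convert flat_appLE (i ≫ a ≫ r) hU ((hV.preimage a).preimage i) eZ using 2
    simp only [Scheme.Hom.app_eq_appLE, Scheme.Hom.appLE_comp_appLE, Category.assoc, reassoc_of% hpo.w]

end BaseChange

/-- A locally fibre product square with all three corners flat over the base has flat vertex. -/
theorem flat_of_cover {a : X ⟶ P₀} {b : Y ⟶ P₀} (w : i ≫ a = j ≫ b) [IsAffineHom a] [IsAffineHom b]
    (r : P₀ ⟶ S) [Flat (a ≫ r)] [Flat (b ≫ r)] [Flat (i ≫ a ≫ r)]
    (hfib : ∀ V : P₀.Opens, IsAffineOpen V → FibAt i j a b w V) : Flat r := by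
  rw [HasRingHomProperty.iff_appLE (P := @Flat)]
  intro ⟨U, hU⟩ ⟨V, hV⟩ eV
  refine FibProp.flat (by simp only [Scheme.Hom.app_eq_appLE, Scheme.Hom.appLE_comp_appLE, Category.assoc, w]) (hfib V hV)
    (by rw [← Scheme.Hom.app_eq_appLE]; exact i.app_surjective _ (hV.preimage a)) ?_ ?_ ?_
  · convert flat_appLE (a ≫ r) hU (hV.preimage a) (a.preimage_mono eV) using 2
    simp only [Scheme.Hom.app_eq_appLE, Scheme.Hom.appLE_comp_appLE, Category.assoc]
  · convert flat_appLE (b ≫ r) hU (hV.preimage b) (b.preimage_mono eV) using 2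
    simp only [Scheme.Hom.app_eq_appLE, Scheme.Hom.appLE_comp_appLE, Category.assoc]
  · convert flat_appLE (i ≫ a ≫ r) hU ((hV.preimage a).preimage i) (i.preimage_mono (a.preimage_mono eV)) using 2
    simp only [Scheme.Hom.app_eq_appLE, Scheme.Hom.appLE_comp_appLE, Category.assoc, reassoc_of% w]

/-- The square over which a map of `S`-schemes is pulled back. -/
lemma isPullback_of_lift {A B S T : Scheme.{u}} {k : A ⟶ B} {f₁ : A ⟶ S} {f₂ : B ⟶ S} (hk : k ≫ f₂ = f₁) (g : T ⟶ S)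
    (k' : pullback f₁ g ⟶ pullback f₂ g) (h₁ : k' ≫ pullback.fst f₂ g = pullback.fst f₁ g ≫ k)
    (h₂ : k' ≫ pullback.snd f₂ g = pullback.snd f₁ g) :
    IsPullback (pullback.fst f₁ g) k' k (pullback.fst f₂ g) := by
  refine IsPullback.of_bot ?_ h₁.symm (IsPullback.of_hasPullback f₂ g)
  rw [hk, h₂]
  exact IsPullback.of_hasPullback f₁ g

end Scheme

end Groth.Agent.Pinch2
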