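import Groth.Agent.Pinch2.Glue
import Mathlib.AlgebraicGeometry.Morphisms.Integral
import Mathlib.AlgebraicGeometry.Morphisms.Finite

/-!
# Properties of the Ferrand pushout
-/

set_option autoImplicit false
set_option backward.isDefEq.respectTransparency.types false

universe u

open CategoryTheory CategoryTheory.Limits AlgebraicGeometry TopologicalSpace

noncomputable section

namespace Groth.Agent.Pinch2

section Algebra

variable {A B C : Type u} [CommRing A] [CommRing B] [CommRing C] {f : A →+* C} {g : B →+* C}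

lemma p₁_finite (hf : Function.Surjective f) (hg : g.Finite) : (p₁ f g).Finite := by
  letI := g.toAlgebra
  letI := (p₁ f g).toAlgebra
  haveI : Module.Finite B C := hg
  obtain ⟨n, c, hc⟩ := Module.Finite.exists_fin (R := B) (M := C)
  choose a ha using fun k => hf (c k)
  classical
  refine ⟨⟨insert 1 (Finset.univ.image a), ?_⟩⟩
  rw [eq_top_iff]
  intro x _
  obtain ⟨b, hb⟩ := (Submodule.mem_span_range_iff_exists_fun B).1
    (hc ▸ Submodule.mem_top : f x ∈ Submodule.span B (Set.range c))
  choose r hr using fun k => p₂_surjective (g := g) hf (b k)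
  have hk : f (x - ∑ k, r k • a k) = 0 := by
    rw [map_sub, map_sum, ← hb, sub_eq_zero]
    refine Finset.sum_congr rfl fun k _ => ?_
    show g (b k) * c k = f (p₁ f g (r k) * a k)
    rw [map_mul, fib_w, hr, ha]
  have hx : x = inKer (g := g) _ hk • (1 : A) + ∑ k, r k • a k := by
    show x = p₁ f g (inKer (g := g) _ hk) * 1 + _
    rw [p₁_inKer, mul_one, sub_add_cancel]
  rw [hx]
  refine Submodule.add_mem _ (Submodule.smul_mem _ _ (Submodule.subset_span (by simp)))
    (Submodule.sum_mem _ fun k _ => Submodule.smul_mem _ _ (Submodule.subset_span (by simp)))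

lemma p₁_integral (hf : Function.Surjective f) (hg : g.IsIntegral) : (p₁ f g).IsIntegral := by
  intro x
  rcases subsingleton_or_nontrivial B with hB | hB
  · have hC : Subsingleton C := subsingleton_of_zero_eq_one (by
      rw [← map_zero g, ← map_one g, Subsingleton.elim (0 : B) 1])
    refine ⟨Polynomial.X - Polynomial.C (inKer (g := g) x (Subsingleton.elim _ _)), Polynomial.monic_X_sub_C _, ?_⟩
    rw [Polynomial.eval₂_sub, Polynomial.eval₂_X, Polynomial.eval₂_C, p₁_inKer, sub_self]
  haveI : Nontrivial (fib f g) := (p₂ f g).domain_nontrivial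
  obtain ⟨q, hq, hqx⟩ := hg (f x)
  have hsurj := p₂_surjective (g := g) hf
  obtain ⟨Q, hQ, hdeg, hQm⟩ := Polynomial.lifts_and_degree_eq_and_monic
    ((Polynomial.mem_lifts q).2 (Polynomial.map_surjective (p₂ f g) hsurj q)) hq
  have hk : f (Polynomial.eval₂ (p₁ f g) x Q) = 0 := by
    rw [Polynomial.hom_eval₂, show f.comp (p₁ f g) = g.comp (p₂ f g) from RingHom.ext fib_w,
      ← Polynomial.eval₂_map, hQ]
    exact hqx
  by_cases hd : 0 < Q.natDegree
  · refine ⟨Q - Polynomial.C (inKer (g := g) _ hk), hQm.sub_of_left (lt_of_le_of_lt Polynomial.degree_C_le ?_), ?_⟩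
    · exact Polynomial.natDegree_pos_iff_degree_pos.1 hd
    · rw [Polynomial.eval₂_sub, Polynomial.eval₂_C, p₁_inKer, sub_self]
  · refine ⟨Q * Polynomial.X - Polynomial.C (inKer (g := g) (Polynomial.eval₂ (p₁ f g) x Q * x)
      (by rw [map_mul, hk, zero_mul])), (hQm.mul Polynomial.monic_X).sub_of_left ?_, ?_⟩
    · refine lt_of_le_of_lt Polynomial.degree_C_le ?_
      rw [show Q = 1 from hQm.natDegree_eq_zero.mp (by omega), one_mul, Polynomial.degree_X]
      exact zero_lt_one
    · rw [Polynomial.eval₂_sub, Polynomial.eval₂_C, p₁_inKer, Polynomial.eval₂_mul_X, sub_self]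

end Algebra

variable {X Y Z : Scheme.{u}} {i : Z ⟶ X} {j : Z ⟶ Y} [IsClosedImmersion i]

lemma isPullback_gB (π : Pair i j) :
    IsPullback (Spec.map (j.appLE π.V π.W π.hW.le)) π.hWa.fromSpec π.hV.fromSpec j :=
  IsOpenImmersion.isPullback _ _ _ _ (π.hV.SpecMap_appLE_fromSpec j π.hWa π.hW.le).symm
    (by rw [π.hV.opensRange_fromSpec, π.hWa.opensRange_fromSpec]; exact π.hW.symm)

variable (H : HasPairs i j)

lemma aMap_of_local (Q : MorphismProperty Scheme.{u}) [IsZariskiLocalAtTarget Q]
    (h : ∀ π : Pair i j, Q π.sA) : Q (aMap H) := by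
  refine IsZariskiLocalAtTarget.of_openCover (Scheme.IsLocallyDirected.openCover (diagram i j)) fun π => ?_
  have hp := (isPullback_aMap H π).flip
  exact (MorphismProperty.arrow_mk_iso_iff Q
    (Arrow.isoMk hp.isoPullback (Iso.refl _) ((hp.isoPullback_hom_snd).trans (Category.comp_id _).symm))).1 (h π)

lemma bMap_of_local (Q : MorphismProperty Scheme.{u}) [IsZariskiLocalAtTarget Q]
    (h : ∀ π : Pair i j, Q π.sB) : Q (bMap H) := by
  refine IsZariskiLocalAtTarget.of_openCover (Scheme.IsLocallyDirected.openCover (diagram i j)) fun π => ?_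
  have hp := (isPullback_bMap H π).flip
  exact (MorphismProperty.arrow_mk_iso_iff Q
    (Arrow.isoMk hp.isoPullback (Iso.refl _) ((hp.isoPullback_hom_snd).trans (Category.comp_id _).symm))).1 (h π)

lemma isClosedImmersion_bMap : IsClosedImmersion (bMap H) :=
  bMap_of_local H @IsClosedImmersion fun π =>
    IsClosedImmersion.spec_of_surjective _ (p₂_surjective π.fA_surjective)

lemma isAffineHom_aMap : IsAffineHom (aMap H) := aMap_of_local H @IsAffineHom fun _ => inferInstance

lemma isIntegralHom_aMap [IsIntegralHom j] : IsIntegralHom (aMap H) :=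
  aMap_of_local H @IsIntegralHom fun π => IsIntegralHom.SpecMap_iff.2 (p₁_integral π.fA_surjective
    (IsIntegralHom.SpecMap_iff.1 (MorphismProperty.of_isPullback (P := @IsIntegralHom) (isPullback_gB π).flip ‹_›)))

lemma isFinite_aMap [IsFinite j] : IsFinite (aMap H) :=
  aMap_of_local H @IsFinite fun π => (IsFinite.SpecMap_iff _).2 (p₁_finite π.fA_surjective
    ((IsFinite.SpecMap_iff _).1 (MorphismProperty.of_isPullback (P := @IsFinite) (isPullback_gB π).flip ‹_›)))

lemma surjective_bMap [Surjective i] : Surjective (bMap H) := by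
  refine ⟨fun p => ?_⟩
  rcases jointly_surjective H p with ⟨x, rfl⟩ | hy
  · obtain ⟨z, rfl⟩ := i.surjective x
    exact ⟨j z, by rw [← Scheme.Hom.comp_apply, ← w H, Scheme.Hom.comp_apply]⟩
  · exact hy

/-- The chart ring is the ring of sections over the chart. -/
lemma exists_section (π : Pair i j) (r : π.ring) :
    ∃ s : Γ(P i j, (incl π).opensRange),
      (aMap H).appLE _ π.U (preimage_aMap H π).ge s = p₁ π.fA π.gB r ∧
      (bMap H).appLE _ π.V (preimage_bMap H π).ge s = p₂ π.fA π.gB r := by
  have hO := isAffineOpen_opensRange (incl π)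
  let l := IsOpenImmersion.isoOfRangeEq (incl π) hO.fromSpec (by rw [hO.range_fromSpec]; rfl)
  have hl : l.hom ≫ hO.fromSpec = incl π := IsOpenImmersion.isoOfRangeEq_hom_fac _ _ _
  let e : Γ(P i j, (incl π).opensRange) ⟶ CommRingCat.of π.ring := Spec.preimage l.hom
  let e' : CommRingCat.of π.ring ⟶ Γ(P i j, (incl π).opensRange) := Spec.preimage l.inv
  have he : Spec.map e = l.hom := Spec.map_preimage _
  have he' : e' ≫ e = 𝟙 _ := Spec.map_injective (by
    rw [Spec.map_comp, Spec.map_preimage, Spec.map_preimage, Spec.map_id, l.hom_inv_id])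
  have hA : (aMap H).appLE _ π.U (preimage_aMap H π).ge = e ≫ CommRingCat.ofHom (p₁ π.fA π.gB) := by
    refine Spec.map_injective ?_
    rw [← cancel_mono hO.fromSpec, hO.SpecMap_appLE_fromSpec (aMap H) π.hU, Spec.map_comp, Category.assoc, he,
      hl, fromSpec_aMap]
  have hB : (bMap H).appLE _ π.V (preimage_bMap H π).ge = e ≫ CommRingCat.ofHom (p₂ π.fA π.gB) := by
    refine Spec.map_injective ?_
    rw [← cancel_mono hO.fromSpec, hO.SpecMap_appLE_fromSpec (bMap H) π.hV, Spec.map_comp, Category.assoc, he,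
      hl, fromSpec_bMap]
  refine ⟨e' r, ?_, ?_⟩
  · rw [hA, ← CommRingCat.comp_apply, ← Category.assoc, he', Category.id_comp]; rfl
  · rw [hB, ← CommRingCat.comp_apply, ← Category.assoc, he', Category.id_comp]; rfl

include H in
theorem isPullback : IsPullback i j (aMap H) (bMap H) := by
  haveI := isClosedImmersion_bMap H
  let u := pullback.fst (aMap H) (bMap H)
  let v := pullback.snd (aMap H) (bMap H)
  have huv : u ≫ aMap H = v ≫ bMap H := pullback.condition
  have hker : i.ker ≤ u.ker := by
    refine Scheme.IdealSheafData.le_of_iSup_eq_top (fun π : Pair i j => (⟨π.U, π.hU⟩ : X.affineOpens))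
      (eq_top_iff.2 fun x _ => Opens.mem_iSup.2 (H.1 x)) fun π => ?_
    rw [Scheme.Hom.ker_apply, Scheme.Hom.ker_apply]
    intro a ha
    have ha' : π.fA a = 0 := by
      show (i.appLE π.U π.W le_rfl) a = 0
      rw [← Scheme.Hom.app_eq_appLE]; exact ha
    obtain ⟨s, hs₁, hs₂⟩ := exists_section H π (inKer (g := π.gB) a ha')
    rw [p₁_inKer] at hs₁
    rw [p₂_inKer] at hs₂
    have hpre : u ⁻¹ᵁ π.U ≤ v ⁻¹ᵁ π.V := by
      rw [← preimage_aMap H π, ← preimage_bMap H π, ← Scheme.Hom.comp_preimage, ← Scheme.Hom.comp_preimage, huv]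
    show u.app π.U a = 0
    rw [Scheme.Hom.app_eq_appLE, ← hs₁, ← CommRingCat.comp_apply, Scheme.Hom.appLE_comp_appLE]
    have hc := Scheme.Hom.appLE_comp_appLE v (bMap H) _ π.V (u ⁻¹ᵁ π.U) (preimage_bMap H π).ge hpre
    have : (u ≫ aMap H).appLE (incl π).opensRange (u ⁻¹ᵁ π.U)
        ((u.preimage_mono (preimage_aMap H π).ge)) s = 0 := by
      have h2 : ((bMap H).appLE _ π.V (preimage_bMap H π).ge ≫ v.appLE π.V (u ⁻¹ᵁ π.U) hpre) s = 0 := by
        rw [CommRingCat.comp_apply, hs₂, map_zero]
      simp only [Scheme.Hom.appLE_comp_appLE] at h2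
      simp only [huv]
      exact h2
    exact this
  let l := IsClosedImmersion.lift i u hker
  have hl : l ≫ i = u := IsClosedImmersion.lift_fac i u hker
  have hlj : l ≫ j = v := by
    rw [← cancel_mono (bMap H), Category.assoc, ← w H, ← Category.assoc, hl, huv]
  refine IsPullback.of_iso_pullback ⟨w H⟩
    { hom := pullback.lift i j (w H), inv := l, hom_inv_id := ?_, inv_hom_id := ?_ }
    (pullback.lift_fst _ _ _) (pullback.lift_snd _ _ _)
  · rw [← cancel_mono i, Category.assoc, hl, Category.id_comp]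
    exact pullback.lift_fst _ _ _
  · refine pullback.hom_ext ?_ ?_
    · rw [Category.assoc, pullback.lift_fst, Category.id_comp]; exact hl
    · rw [Category.assoc, pullback.lift_snd, Category.id_comp]; exact hlj

end Groth.Agent.Pinch2
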