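import Mathlib.RingTheory.Localization.Away.Basic
import Mathlib.RingTheory.Spectrum.Prime.Topology
import Mathlib.RingTheory.Nilpotent.Lemmas
import Mathlib.Algebra.Ring.Subring.Basic
import Mathlib.RingTheory.IntegralClosure.IsIntegral.Basic
import Mathlib.RingTheory.Finiteness.Basic

/-!
# Fibre products of rings along a surjection (affine Ferrand pushouts)

`R = A ×_C B` for `f : A →+* C` surjective and `g : B →+* C`.
-/

set_option autoImplicit false

universe u

namespace Groth.Agent.Pinch2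

variable {A B C : Type u} [CommRing A] [CommRing B] [CommRing C]

/-- The fibre product ring. -/
abbrev fib (f : A →+* C) (g : B →+* C) : Subring (A × B) :=
  RingHom.eqLocus (f.comp (RingHom.fst A B)) (g.comp (RingHom.snd A B))

variable {f : A →+* C} {g : B →+* C}

/-- First projection. -/
abbrev p₁ (f : A →+* C) (g : B →+* C) : fib f g →+* A := (RingHom.fst A B).comp (fib f g).subtype
/-- Second projection. -/
abbrev p₂ (f : A →+* C) (g : B →+* C) : fib f g →+* B := (RingHom.snd A B).comp (fib f g).subtype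

lemma fib_w (r : fib f g) : f (p₁ f g r) = g (p₂ f g r) := r.2

lemma fib_ext {r s : fib f g} (h₁ : p₁ f g r = p₁ f g s) (h₂ : p₂ f g r = p₂ f g s) : r = s :=
  Subtype.ext (Prod.ext h₁ h₂)

lemma p₂_surjective (hf : Function.Surjective f) : Function.Surjective (p₂ f g) := fun b => by
  obtain ⟨a, ha⟩ := hf (g b)
  exact ⟨⟨(a, b), ha⟩, rfl⟩

/-- The element `(k, 0)` for `k` in the kernel. -/
def inKer (k : A) (hk : f k = 0) : fib f g := ⟨(k, 0), show f k = g 0 by rw [hk, map_zero]⟩

@[simp] lemma p₁_inKer (k : A) (hk : f k = 0) : p₁ f g (inKer (g := g) k hk) = k := rfl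
@[simp] lemma p₂_inKer (k : A) (hk : f k = 0) : p₂ f g (inKer (g := g) k hk) = 0 := rfl

lemma inKer_mul (k : A) (hk : f k = 0) (r : fib f g) :
    r * inKer (g := g) k hk = inKer (g := g) (p₁ f g r * k) (by rw [map_mul, hk, mul_zero]) :=
  fib_ext rfl (mul_zero _)

/-- A point of `A` at which some kernel element does not vanish is the only point over its image. -/
lemma eq_of_comap_eq {k : A} (hk : f k = 0) {x x' : Ideal A} [x.IsPrime] [x'.IsPrime] (hx : k ∉ x)
    (h : x.comap (p₁ f g) = x'.comap (p₁ f g)) : x = x' := by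
  have hx' : k ∉ x' := fun hk' => hx (by
    have : inKer (g := g) k hk ∈ x'.comap (p₁ f g) := hk'
    rwa [← h] at this)
  have key : ∀ y z : Ideal A, z.IsPrime → k ∉ z → y.comap (p₁ f g) = z.comap (p₁ f g) → y ≤ z := by
    intro y z hz hkz hyz a ha
    have : inKer (g := g) (a * k) (by rw [map_mul, hk, mul_zero]) ∈ y.comap (p₁ f g) := y.mul_mem_right _ ha
    rw [hyz] at this
    exact (hz.mem_or_mem this).resolve_right hkz
  exact le_antisymm (key x x' ‹_› hx' h) (key x' x ‹_› hx h.symm)

/-- Every prime of the fibre product comes from `A` outside `V(ker f)` or from `B`. -/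
lemma exists_point (hf : Function.Surjective f) (P : Ideal (fib f g)) [P.IsPrime] :
    (∃ x : Ideal A, x.IsPrime ∧ x.comap (p₁ f g) = P ∧ ∃ k, f k = 0 ∧ k ∉ x) ∨
      ∃ y : Ideal B, y.IsPrime ∧ y.comap (p₂ f g) = P := by
  by_cases h : ∀ (k : A) (hk : f k = 0), inKer (g := g) k hk ∈ P
  · right
    have hker : RingHom.ker (p₂ f g) ≤ P := fun r hr => by
      rw [RingHom.mem_ker] at hr
      have he : r = inKer (g := g) (p₁ f g r) (by rw [fib_w r, hr, map_zero]) := fib_ext rfl hr
      rw [he]; exact h _ _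
    refine ⟨P.map (p₂ f g), Ideal.map_isPrime_of_surjective (p₂_surjective (g := g) hf) hker, ?_⟩
    rw [Ideal.comap_map_of_surjective _ (p₂_surjective (g := g) hf)]
    exact sup_eq_left.2 hker
  · left
    push Not at h
    obtain ⟨k, hk, hkP⟩ := h
    let e : A → fib f g := fun a => inKer (g := g) (a * k) (by rw [map_mul, hk, mul_zero])
    have hadd : ∀ a b, e (a + b) = e a + e b := fun a b => fib_ext (add_mul a b k) (add_zero (0 : B)).symm
    have he : ∀ r, e (p₁ f g r) = r * inKer (g := g) k hk := fun r => (inKer_mul k hk r).symm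
    let x : Ideal A :=
      { carrier := {a | e a ∈ P}
        zero_mem' := by
          show e 0 ∈ P
          rw [show e 0 = 0 from fib_ext (zero_mul k) rfl]
          exact P.zero_mem
        add_mem' := fun {a b} ha hb => by
          show e (a + b) ∈ P
          rw [hadd]; exact P.add_mem ha hb
        smul_mem' := fun c a ha => by
          show e (c * a) ∈ P
          have h1 : e (c * a) * inKer (g := g) k hk ∈ P := by
            rw [show e (c * a) * inKer (g := g) k hk = e c * e a from fib_ext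
              (show c * a * k * k = c * k * (a * k) by ring) rfl]
            exact P.mul_mem_left _ ha
          exact (‹P.IsPrime›.mem_or_mem h1).resolve_right hkP }
    have hkk : e k ∉ P := by
      have : e k = inKer (g := g) k hk * inKer (g := g) k hk := fib_ext rfl (mul_zero (0 : B)).symm
      rw [this]
      exact ‹P.IsPrime›.mul_notMem hkP hkP
    have hx1 : (1 : A) ∉ x := fun h1 => hkP (by
      have : e 1 = inKer (g := g) k hk := fib_ext (one_mul k) rfl
      exact this ▸ (show e 1 ∈ P from h1))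
    refine ⟨x, ⟨fun ht => hx1 (ht ▸ Submodule.mem_top), fun {a b} hab => ?_⟩, ?_, k, hk, hkk⟩
    · have h1 : e a * e b ∈ P := by
        rw [show e a * e b = inKer (g := g) k hk * e (a * b) from fib_ext
          (show a * k * (b * k) = k * (a * b * k) by ring) rfl]
        exact P.mul_mem_left _ hab
      exact ‹P.IsPrime›.mem_or_mem h1
    · ext r
      show e (p₁ f g r) ∈ P ↔ r ∈ P
      rw [he]
      exact ⟨fun h1 => (‹P.IsPrime›.mem_or_mem h1).resolve_right hkP, fun h1 => P.mul_mem_right _ h1⟩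

/-- The points of `A` over the image of a point `y` of `B` come from points of `C` over `y`. -/
lemma exists_of_comap_eq_comap (hf : Function.Surjective f) {x : Ideal A} [x.IsPrime] {y : Ideal B} [y.IsPrime]
    (h : x.comap (p₁ f g) = y.comap (p₂ f g)) :
    ∃ c : Ideal C, c.IsPrime ∧ c.comap f = x ∧ c.comap g = y := by
  have hker : RingHom.ker f ≤ x := fun k hk => by
    have : inKer (g := g) k hk ∈ y.comap (p₂ f g) := y.zero_mem
    rw [← h] at this
    exact this
  refine ⟨x.map f, Ideal.map_isPrime_of_surjective hf hker, ?_, ?_⟩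
  · rw [Ideal.comap_map_of_surjective _ hf]; exact sup_eq_left.2 hker
  · refine Ideal.comap_injective_of_surjective (p₂ f g) (p₂_surjective hf) ?_
    rw [← h, Ideal.comap_comap,
      show g.comp (p₂ f g) = f.comp (p₁ f g) from RingHom.ext fun r => (fib_w r).symm,
      ← Ideal.comap_comap, Ideal.comap_map_of_surjective _ hf]
    exact congrArg (fun I => Ideal.comap (p₁ f g) I) (sup_eq_left.2 hker)

/-- Separation of a point of the fibre product from compatible closed sets. -/
lemma exists_elem (hf : Function.Surjective f) {F : Set (PrimeSpectrum A)} {G : Set (PrimeSpectrum B)}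
    (hF : IsClosed F) (hG : IsClosed G)
    (hFG : PrimeSpectrum.comap f ⁻¹' F = PrimeSpectrum.comap g ⁻¹' G) {P : Ideal (fib f g)}
    (hP : (∃ x : PrimeSpectrum A, x.asIdeal.comap (p₁ f g) = P ∧ x ∉ F) ∨
      ∃ y : PrimeSpectrum B, y.asIdeal.comap (p₂ f g) = P ∧ y ∉ G) :
    ∃ r : fib f g, r ∉ P ∧ (∀ x ∈ F, p₁ f g r ∈ x.asIdeal) ∧ ∀ y ∈ G, p₂ f g r ∈ y.asIdeal := by
  obtain ⟨s, rfl⟩ := (PrimeSpectrum.isClosed_iff_zeroLocus F).1 hF
  obtain ⟨t, rfl⟩ := (PrimeSpectrum.isClosed_iff_zeroLocus G).1 hG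
  have caseB : ∀ y : PrimeSpectrum B, y.asIdeal.comap (p₂ f g) = P → y ∉ PrimeSpectrum.zeroLocus t →
      ∃ r : fib f g, r ∉ P ∧ (∀ x ∈ PrimeSpectrum.zeroLocus s, p₁ f g r ∈ x.asIdeal) ∧
        ∀ y ∈ PrimeSpectrum.zeroLocus t, p₂ f g r ∈ y.asIdeal := by
    intro y hy hyt
    obtain ⟨b, hbt, hby⟩ := Set.not_subset.1 hyt
    have hrad : g b ∈ ((Ideal.span s).map f).radical := by
      rw [Ideal.radical_eq_sInf, Ideal.mem_sInf]
      rintro Q ⟨hQ, hQp⟩
      have h1 : (⟨Q, hQp⟩ : PrimeSpectrum C) ∈ PrimeSpectrum.comap f ⁻¹' PrimeSpectrum.zeroLocus s :=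
        fun a ha => hQ (Ideal.mem_map_of_mem f (Ideal.subset_span ha))
      rw [hFG] at h1
      exact h1 hbt
    obtain ⟨N₀, hN₀⟩ := hrad
    obtain ⟨N, hN', hN⟩ : ∃ N, 0 < N ∧ g b ^ N ∈ (Ideal.span s).map f :=
      ⟨N₀ + 1, N₀.succ_pos, by rw [pow_succ]; exact Ideal.mul_mem_right _ _ hN₀⟩
    obtain ⟨a, ha, hab⟩ := (Ideal.mem_map_iff_of_surjective f hf).1 hN
    refine ⟨⟨(a, b ^ N), show f a = g (b ^ N) by rw [hab, map_pow]⟩, ?_, fun x hx => ?_, fun z hz => ?_⟩
    · rw [← hy]
      exact fun hmem => hby (y.2.mem_of_pow_mem N hmem)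
    · exact Ideal.span_le.2 hx ha
    · show b ^ N ∈ z.asIdeal
      exact Ideal.pow_mem_of_mem _ (hz hbt) N hN'
  rcases hP with ⟨x, hx, hxs⟩ | ⟨y, hy, hyt⟩
  · by_cases hker : RingHom.ker f ≤ x.asIdeal
    · have hc : (x.asIdeal.map f).IsPrime := Ideal.map_isPrime_of_surjective hf hker
      have hcx : (x.asIdeal.map f).comap f = x.asIdeal := by
        rw [Ideal.comap_map_of_surjective _ hf]; exact sup_eq_left.2 hker
      let c : PrimeSpectrum C := ⟨_, hc⟩
      refine caseB (PrimeSpectrum.comap g c) ?_ fun h => hxs ?_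
      · rw [← hx, ← hcx]
        show Ideal.comap (p₂ f g) (Ideal.comap g c.asIdeal) = Ideal.comap (p₁ f g) (Ideal.comap f c.asIdeal)
        rw [Ideal.comap_comap, Ideal.comap_comap,
          show g.comp (p₂ f g) = f.comp (p₁ f g) from RingHom.ext fun r => (fib_w r).symm]
      · have h1 : c ∈ PrimeSpectrum.comap g ⁻¹' PrimeSpectrum.zeroLocus t := h
        rw [← hFG] at h1
        have : PrimeSpectrum.comap f c = x := PrimeSpectrum.ext hcx
        rwa [Set.mem_preimage, this] at h1
    · obtain ⟨k, hk, hkx⟩ := Set.not_subset.1 hker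
      obtain ⟨a, has, hax⟩ := Set.not_subset.1 hxs
      refine ⟨inKer (g := g) (a * k) (by rw [map_mul, RingHom.mem_ker.1 hk, mul_zero]), ?_, fun z hz => ?_,
        fun z _ => z.asIdeal.zero_mem⟩
      · rw [← hx]
        exact fun hmem => (x.2.mem_or_mem hmem).elim hax hkx
      · exact z.asIdeal.mul_mem_right _ (hz has)
  · exact caseB y hy hyt

end Groth.Agent.Pinch2
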