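import Groth.Agent.Pinch2.Ring

/-!
# Localisation of fibre products of rings
-/

set_option autoImplicit false

universe u

namespace Groth.Agent.Pinch2

variable {A B C A' B' C' : Type u} [CommRing A] [CommRing B] [CommRing C] [CommRing A'] [CommRing B'] [CommRing C']

/-- The map of fibre products induced by maps of the corners. -/
def fibMap {f : A →+* C} {g : B →+* C} (f' : A' →+* C') (g' : B' →+* C') (α : A →+* A') (β : B →+* B') (γ : C →+* C')
    (hf : f'.comp α = γ.comp f) (hg : g'.comp β = γ.comp g) : fib f g →+* fib f' g' :=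
  ((RingHom.prodMap α β).comp (fib f g).subtype).codRestrict _ fun r => by
    show f' (α (p₁ f g r)) = g' (β (p₂ f g r))
    have h1 := RingHom.congr_fun hf (p₁ f g r)
    have h2 := RingHom.congr_fun hg (p₂ f g r)
    simp only [RingHom.comp_apply] at h1 h2
    exact h1.trans ((congrArg γ (fib_w r)).trans h2.symm)

@[simp] lemma p₁_fibMap {f : A →+* C} {g : B →+* C} (f' : A' →+* C') (g' : B' →+* C') (α : A →+* A')
    (β : B →+* B') (γ : C →+* C') (hf : f'.comp α = γ.comp f) (hg : g'.comp β = γ.comp g) (r : fib f g) :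
    p₁ f' g' (fibMap f' g' α β γ hf hg r) = α (p₁ f g r) := rfl

@[simp] lemma p₂_fibMap {f : A →+* C} {g : B →+* C} (f' : A' →+* C') (g' : B' →+* C') (α : A →+* A')
    (β : B →+* B') (γ : C →+* C') (hf : f'.comp α = γ.comp f) (hg : g'.comp β = γ.comp g) (r : fib f g) :
    p₂ f' g' (fibMap f' g' α β γ hf hg r) = β (p₂ f g r) := rfl

variable [Algebra A A'] [Algebra B B'] [Algebra C C']

/-- The fibre product of localisations is the localisation of the fibre product. -/
theorem isLocalization_fib (f : A →+* C) (g : B →+* C) (f' : A' →+* C') (g' : B' →+* C')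
    (hf : f'.comp (algebraMap A A') = (algebraMap C C').comp f)
    (hg : g'.comp (algebraMap B B') = (algebraMap C C').comp g)
    (r : fib f g) [IsLocalization.Away (p₁ f g r) A'] [IsLocalization.Away (p₂ f g r) B']
    [IsLocalization.Away (f (p₁ f g r)) C'] :
    letI := (fibMap (f := f) (g := g) f' g' (algebraMap A A') (algebraMap B B') (algebraMap C C') hf hg).toAlgebra
    IsLocalization.Away r (fib f' g') := by
  set a := p₁ f g r with ha
  set b := p₂ f g r with hb
  set c := f a with hc
  have hf' : ∀ x, f' (algebraMap A A' x) = algebraMap C C' (f x) := fun x => RingHom.congr_fun hf x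
  have hg' : ∀ x, g' (algebraMap B B' x) = algebraMap C C' (g x) := fun x => RingHom.congr_fun hg x
  have hcb : g b = c := (fib_w r).symm
  letI := (fibMap (f := f) (g := g) f' g' (algebraMap A A') (algebraMap B B') (algebraMap C C') hf hg).toAlgebra
  have hua : IsUnit (algebraMap A A' a) := IsLocalization.Away.algebraMap_isUnit a
  have hub : IsUnit (algebraMap B B' b) := IsLocalization.Away.algebraMap_isUnit b
  refine IsLocalization.Away.mk r ?_ ?_ ?_
  · refine isUnit_iff_exists_inv.2 ⟨⟨((hua.unit⁻¹ : A'ˣ), (hub.unit⁻¹ : B'ˣ)), ?_⟩, fib_ext ?_ ?_⟩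
    · show f' (↑hua.unit⁻¹ : A') = g' (↑hub.unit⁻¹ : B')
      refine ((hua.map f').mul_right_inj).1 ?_
      rw [← map_mul, hua.mul_val_inv, map_one]
      have : f' (algebraMap A A' a) = g' (algebraMap B B' b) := by rw [hf', hg', hcb]
      rw [this, ← map_mul, hub.mul_val_inv, map_one]
    · exact hua.mul_val_inv
    · exact hub.mul_val_inv
  · intro z
    obtain ⟨n, x, hx⟩ := IsLocalization.Away.surj a (p₁ f' g' z)
    obtain ⟨m, y, hy⟩ := IsLocalization.Away.surj b (p₂ f' g' z)
    have h1 : algebraMap C C' (f (x * a ^ m)) = algebraMap C C' (g (y * b ^ n)) := by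
      rw [← hf', ← hg', map_mul, ← hx, map_mul (algebraMap B B'), ← hy, map_pow, map_pow, map_mul f', map_mul g',
        map_mul f', map_mul g', map_pow, map_pow, map_pow, map_pow, hf', hg', hcb, fib_w z]
      ring
    obtain ⟨k, hk⟩ := IsLocalization.Away.exists_of_eq c h1
    refine ⟨n + m + k, ⟨⟨(x * a ^ (m + k), y * b ^ (n + k)), ?_⟩, fib_ext ?_ ?_⟩⟩
    · show f (x * a ^ (m + k)) = g (y * b ^ (n + k))
      rw [map_mul f, map_mul g] at hk ⊢
      rw [map_pow f, map_pow g, hcb, ← hc] at hk ⊢
      calc f x * c ^ (m + k) = c ^ k * (f x * c ^ m) := by ring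
        _ = c ^ k * (g y * c ^ n) := hk
        _ = g y * c ^ (n + k) := by ring
    · show p₁ f' g' z * (p₁ f' g' (algebraMap (fib f g) (fib f' g') r)) ^ (n + m + k) =
        algebraMap A A' (x * a ^ (m + k))
      rw [show p₁ f' g' (algebraMap (fib f g) (fib f' g') r) = algebraMap A A' a from rfl,
        map_mul, map_pow, ← hx]
      ring
    · show p₂ f' g' z * (p₂ f' g' (algebraMap (fib f g) (fib f' g') r)) ^ (n + m + k) =
        algebraMap B B' (y * b ^ (n + k))
      rw [show p₂ f' g' (algebraMap (fib f g) (fib f' g') r) = algebraMap B B' b from rfl,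
        map_mul, map_pow, ← hy]
      ring
  · intro s t hst
    obtain ⟨n, hn⟩ := IsLocalization.Away.exists_of_eq (S := A') a (congrArg (p₁ f' g') hst)
    obtain ⟨m, hm⟩ := IsLocalization.Away.exists_of_eq (S := B') b (congrArg (p₂ f' g') hst)
    refine ⟨n + m, fib_ext ?_ ?_⟩
    · rw [map_mul, map_mul, map_pow, ← ha]
      linear_combination a ^ m * hn
    · rw [map_mul, map_mul, map_pow, ← hb]
      linear_combination b ^ n * hm

end Groth.Agent.Pinch2
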