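import Groth.Agent.Pinch2.Milnor
import Mathlib.Geometry.RingedSpace.SheafedSpace
import Mathlib.Topology.Sheaves.SheafCondition.UniqueGluing

/-!
# Ferrand pushouts are pushouts of ringed spaces
-/

set_option autoImplicit false
set_option backward.isDefEq.respectTransparency.types false

universe u

open CategoryTheory CategoryTheory.Limits AlgebraicGeometry TopologicalSpace Opposite

noncomputable section

namespace Groth.Agent.Pinch2

/-- The functor to ringed spaces. -/
abbrev toRS : Scheme.{u} ⥤ SheafedSpace CommRingCat.{u} :=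
  Scheme.forgetToLocallyRingedSpace ⋙ LocallyRingedSpace.forgetToSheafedSpace

section RS

variable {X Y W : SheafedSpace CommRingCat.{u}}

/-- The map on sections of a morphism of ringed spaces, between given opens. -/
def secMap (φ : X ⟶ Y) (U : Opens Y) (O : Opens X) (h : O ≤ (Opens.map φ.hom.base).obj U) :
    Y.presheaf.obj (op U) ⟶ X.presheaf.obj (op O) :=
  φ.hom.c.app (op U) ≫ X.presheaf.map (homOfLE h).op

lemma secMap_congr {φ ψ : X ⟶ Y} (e : φ = ψ) (U : Opens Y) (O : Opens X) (h : O ≤ (Opens.map φ.hom.base).obj U) :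
    secMap φ U O h = secMap ψ U O (e ▸ h) := by subst e; rfl

lemma secMap_res (φ : X ⟶ Y) {U U' : Opens Y} (hU : U' ≤ U) (O : Opens X)
    (h : O ≤ (Opens.map φ.hom.base).obj U') :
    Y.presheaf.map (homOfLE hU).op ≫ secMap φ U' O h =
      secMap φ U O (fun x hx => hU (h hx)) := by
  simp only [secMap]
  rw [← Category.assoc, φ.hom.c.naturality (homOfLE hU).op, Category.assoc]
  show _ ≫ X.presheaf.map ((Opens.map φ.hom.base).map (homOfLE hU)).op ≫ _ = _
  rw [← Functor.map_comp]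
  rfl

lemma res_secMap (φ : X ⟶ Y) (U : Opens Y) {O O' : Opens X} (hO : O' ≤ O)
    (h : O ≤ (Opens.map φ.hom.base).obj U) :
    secMap φ U O h ≫ X.presheaf.map (homOfLE hO).op = secMap φ U O' (hO.trans h) := by
  simp only [secMap]
  rw [Category.assoc, ← Functor.map_comp]
  rfl

lemma secMap_comp (φ : X ⟶ Y) (ψ : Y ⟶ W) (U : Opens W) (V : Opens Y) (O : Opens X)
    (h₁ : V ≤ (Opens.map ψ.hom.base).obj U) (h₂ : O ≤ (Opens.map φ.hom.base).obj V) :
    secMap ψ U V h₁ ≫ secMap φ V O h₂ = secMap (φ ≫ ψ) U O (fun x hx => h₁ (h₂ hx)) := by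
  conv_lhs => rw [secMap, Category.assoc, secMap_res φ h₁ O h₂]
  simp only [secMap]
  rw [← Category.assoc]
  rfl

lemma secMap_self (φ : X ⟶ Y) (U : Opens Y) : secMap φ U _ le_rfl = φ.hom.c.app (op U) := by
  exact (congrArg (φ.hom.c.app (op U) ≫ ·) (X.presheaf.map_id _)).trans (Category.comp_id _)

lemma secMap_comp_apply (φ : X ⟶ Y) (ψ : Y ⟶ W) (U : Opens W) (V : Opens Y) (O : Opens X)
    (h₁ : V ≤ (Opens.map ψ.hom.base).obj U) (h₂ : O ≤ (Opens.map φ.hom.base).obj V) (t : W.presheaf.obj (op U)) :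
    secMap φ V O h₂ (secMap ψ U V h₁ t) = secMap (φ ≫ ψ) U O (fun x hx => h₁ (h₂ hx)) t :=
  congr($(secMap_comp φ ψ U V O h₁ h₂) t)

lemma secMap_congr_apply {φ ψ : X ⟶ Y} (e : φ = ψ) (U : Opens Y) (O : Opens X) (h : O ≤ (Opens.map φ.hom.base).obj U)
    (h' : O ≤ (Opens.map ψ.hom.base).obj U) (t : Y.presheaf.obj (op U)) : secMap φ U O h t = secMap ψ U O h' t := by
  subst e; rfl

lemma res_secMap_apply (φ : X ⟶ Y) {U U' : Opens Y} (hU : U' ≤ U) {O O' : Opens X} (hO : O' ≤ O)
    (h : O ≤ (Opens.map φ.hom.base).obj U) (h' : O' ≤ (Opens.map φ.hom.base).obj U') (t : Y.presheaf.obj (op U)) :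
    secMap φ U' O' h' (Y.presheaf.map (homOfLE hU).op t) = X.presheaf.map (homOfLE hO).op (secMap φ U O h t) :=
  congr($((secMap_res φ hU O' h').trans (res_secMap φ U hO h).symm) t)

lemma hom_ext_secMap (φ ψ : X ⟶ Y) (hb : φ.hom.base = ψ.hom.base)
    (h : ∀ U, secMap φ U _ le_rfl = secMap ψ U ((Opens.map φ.hom.base).obj U) (hb ▸ le_rfl)) : φ = ψ := by
  obtain ⟨⟨φb, φc⟩⟩ := φ
  obtain ⟨⟨ψb, ψc⟩⟩ := ψ
  obtain rfl : φb = ψb := hb
  obtain rfl : φc = ψc := NatTrans.ext (funext fun U => by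
    have := h U.unop
    rwa [secMap_self, secMap_self] at this)
  rfl

end RS

lemma secMap_toRS {A B : Scheme.{u}} (f : A ⟶ B) (U : B.Opens) (O : A.Opens) (h : O ≤ f ⁻¹ᵁ U) :
    secMap (toRS.map f) U O h = f.appLE U O h := rfl

variable {X Y Z P' : Scheme.{u}} {i : Z ⟶ X} {j : Z ⟶ Y} [IsClosedImmersion i]
variable {a : X ⟶ P'} {b : Y ⟶ P'} (H : HasPairs i j) (hP : IsPushout i j a b)

include H hP

lemma isOpen_of_preimage {O : Set P'} (hA : IsOpen (a ⁻¹' O)) (hB : IsOpen (b ⁻¹' O)) : IsOpen O := by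
  obtain ⟨e, rfl, rfl⟩ := exists_iso H hP
  rw [← (Scheme.Hom.homeomorph e.hom).isOpen_preimage, isOpen_iff_forall_mem_open]
  intro p hp
  obtain ⟨π, q, rfl⟩ := exists_incl p
  obtain ⟨r, hr, hrU, hrV⟩ := π.exists_basic (U₀ := ⟨(aMap H ≫ e.hom) ⁻¹' O, hA⟩)
    (V₀ := ⟨(bMap H ≫ e.hom) ⁻¹' O, hB⟩) (p := q)
    (by
      ext z
      show e.hom (aMap H (i z)) ∈ O ↔ e.hom (bMap H (j z)) ∈ O
      rw [← Scheme.Hom.comp_apply i, w H, Scheme.Hom.comp_apply]) (by
      rcases π.exists_over q with ⟨x, hx, -⟩ | ⟨y, hy, -⟩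
      · exact Or.inl ⟨x, hx, by
          show e.hom (aMap H (π.hU.fromSpec x)) ∈ O
          rw [aMap_fromSpec_apply, hx]; exact hp⟩
      · exact Or.inr ⟨y, hy, by
          show e.hom (bMap H (π.hV.fromSpec y)) ∈ O
          rw [bMap_fromSpec_apply, hy]; exact hp⟩)
  refine ⟨(incl (π.restrict r)).opensRange, ?_, (incl (π.restrict r)).opensRange.2, ?_⟩
  · rintro _ ⟨v, rfl⟩
    rcases (π.restrict r).exists_over v with ⟨x, rfl, hxU⟩ | ⟨y, rfl, hyV⟩
    · rw [← aMap_fromSpec_apply H]; exact hrU hxU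
    · rw [← bMap_fromSpec_apply H]; exact hrV hyV
  · obtain ⟨v, hv⟩ := (π.mem_range_restrict r q).2 hr
    exact ⟨v, by rw [← hv, ← Scheme.Hom.comp_apply, chartMap_incl]⟩

lemma exists_of_eq {x : X} {y : Y} (h : a x = b y) : ∃ z, i z = x ∧ j z = y := by
  obtain ⟨e, rfl, rfl⟩ := exists_iso H hP
  rw [Scheme.Hom.comp_apply, Scheme.Hom.comp_apply] at h
  have hpb := Groth.Agent.Pinch2.isPullback H
  obtain ⟨t, ht₁, ht₂⟩ := Scheme.Pullback.exists_preimage_pullback (f := aMap H) (g := bMap H) x y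
    ((Scheme.Hom.homeomorph e.hom).injective h)
  exact ⟨hpb.isoPullback.inv t, by rw [← Scheme.Hom.comp_apply, hpb.isoPullback_inv_fst, ht₁],
    by rw [← Scheme.Hom.comp_apply, hpb.isoPullback_inv_snd, ht₂]⟩

lemma eq_of_eq {x x' : X} (hx : x ∉ Set.range i) (h : a x = a x') : x = x' := by
  obtain ⟨e, rfl, -⟩ := exists_iso H hP
  rw [Scheme.Hom.comp_apply, Scheme.Hom.comp_apply] at h
  replace h := (Scheme.Hom.homeomorph e.hom).injective h
  obtain ⟨π, hxU⟩ := H.1 x
  have hx'U : x' ∈ π.U := by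
    rw [← preimage_aMap H π] at hxU ⊢
    change aMap H x' ∈ (incl π).opensRange
    rw [← h]; exact hxU
  obtain ⟨u, rfl⟩ : x ∈ Set.range π.hU.fromSpec := π.hU.range_fromSpec.symm ▸ hxU
  obtain ⟨u', rfl⟩ : x' ∈ Set.range π.hU.fromSpec := π.hU.range_fromSpec.symm ▸ hx'U
  rw [aMap_fromSpec_apply, aMap_fromSpec_apply] at h
  have h' := (incl π).isOpenEmbedding.injective h
  obtain ⟨k, hk, hku⟩ : ∃ k, π.fA k = 0 ∧ k ∉ u.asIdeal := by
    by_contra hc
    push Not at hc
    have hle : RingHom.ker π.fA ≤ u.asIdeal := fun k hk => hc k hk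
    let c : Spec Γ(Z, π.W) := ⟨u.asIdeal.map π.fA, Ideal.map_isPrime_of_surjective π.fA_surjective hle⟩
    have hcu : Spec.map (i.appLE π.U π.W le_rfl) c = u := PrimeSpectrum.ext (by
      show Ideal.comap π.fA (Ideal.map π.fA u.asIdeal) = u.asIdeal
      rw [Ideal.comap_map_of_surjective _ π.fA_surjective]
      exact sup_eq_left.2 hle)
    refine hx ⟨π.hWa.fromSpec c, ?_⟩
    rw [← hcu, ← Scheme.Hom.comp_apply, ← Scheme.Hom.comp_apply, π.hU.SpecMap_appLE_fromSpec i π.hWa]
  have hu : u = u' := PrimeSpectrum.ext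
    (eq_of_comap_eq (g := π.gB) hk hku (congrArg PrimeSpectrum.asIdeal h'))
  rw [hu]

omit H hP

include H hP in
/-- On every open subset the functions form a fibre product. -/
theorem fibAt_all [IsAffineHom a] [IsAffineHom b] (V : P'.Opens) :
    FibAt i j a b hP.w V := by
  have inj : ∀ (V : P'.Opens) (s t : Γ(P', V)), a.app V s = a.app V t → b.app V s = b.app V t → s = t := by
    intro V s t h₁ h₂
    let K := {W : P'.Opens // IsAffineOpen W ∧ W ≤ V}
    refine TopCat.Sheaf.eq_of_locally_eq' P'.sheaf (fun k : K => k.1) V (fun k => homOfLE k.2.2) (fun p hp => ?_) s t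
      fun k => ?_
    · obtain ⟨W, hW, hpW, hle⟩ := exists_isAffineOpen_mem_and_subset (x := p) (U := V) hp
      exact Opens.mem_iSup.2 ⟨⟨W, hW, hle⟩, hpW⟩
    · refine (fibAt_of_isPushout H hP k.2.1).1 _ _ ?_ ?_
      · show (P'.presheaf.map (homOfLE k.2.2).op ≫ a.app k.1) s = (P'.presheaf.map (homOfLE k.2.2).op ≫ a.app k.1) t
        rw [a.naturality, CommRingCat.comp_apply, CommRingCat.comp_apply, h₁]
      · show (P'.presheaf.map (homOfLE k.2.2).op ≫ b.app k.1) s = (P'.presheaf.map (homOfLE k.2.2).op ≫ b.app k.1) t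
        rw [b.naturality, CommRingCat.comp_apply, CommRingCat.comp_apply, h₂]
  refine ⟨inj V, fun x y hxy => ?_⟩
  let K := {W : P'.Opens // IsAffineOpen W ∧ W ≤ V}
  have hcompat : ∀ k : K, ∃ s, a.app k.1 s = X.presheaf.map (homOfLE (a.preimage_mono k.2.2)).op x ∧
      b.app k.1 s = Y.presheaf.map (homOfLE (b.preimage_mono k.2.2)).op y := by
    intro k
    refine (fibAt_of_isPushout H hP k.2.1).2 _ _ ?_
    rw [← CommRingCat.comp_apply, ← CommRingCat.comp_apply, Scheme.Hom.map_appLE, Scheme.Hom.map_appLE]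
    have := congrArg (Z.presheaf.map (homOfLE (i.preimage_mono (a.preimage_mono k.2.2))).op) hxy
    rwa [← CommRingCat.comp_apply, ← CommRingCat.comp_apply, Scheme.Hom.appLE_map, Scheme.Hom.appLE_map] at this
  choose sf hsa hsb using hcompat
  obtain ⟨s, hs, -⟩ := TopCat.Sheaf.existsUnique_gluing' P'.sheaf (fun k : K => k.1) V (fun k => homOfLE k.2.2)
    (fun p hp => by
      obtain ⟨W, hW, hpW, hle⟩ := exists_isAffineOpen_mem_and_subset (x := p) (U := V) hp
      exact Opens.mem_iSup.2 ⟨⟨W, hW, hle⟩, hpW⟩)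
    sf (fun k l => inj _ _ _ (by
      show (P'.presheaf.map _ ≫ a.app _) (sf k) = (P'.presheaf.map _ ≫ a.app _) (sf l)
      rw [a.naturality, a.naturality, CommRingCat.comp_apply, CommRingCat.comp_apply, hsa, hsa,
        ← CommRingCat.comp_apply, ← CommRingCat.comp_apply, ← Functor.map_comp, ← Functor.map_comp]
      rfl) (by
      show (P'.presheaf.map _ ≫ b.app _) (sf k) = (P'.presheaf.map _ ≫ b.app _) (sf l)
      rw [b.naturality, b.naturality, CommRingCat.comp_apply, CommRingCat.comp_apply, hsb, hsb,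
        ← CommRingCat.comp_apply, ← CommRingCat.comp_apply, ← Functor.map_comp, ← Functor.map_comp]
      rfl))
  have hV : ∀ (p : P') (hp : p ∈ V), ∃ k : K, p ∈ k.1 := fun p hp => by
    obtain ⟨W, hW, hpW, hle⟩ := exists_isAffineOpen_mem_and_subset (x := p) (U := V) hp
    exact ⟨⟨W, hW, hle⟩, hpW⟩
  refine ⟨s, ?_, ?_⟩
  · refine TopCat.Sheaf.eq_of_locally_eq' X.sheaf (fun k : K => a ⁻¹ᵁ k.1) (a ⁻¹ᵁ V)
      (fun k => homOfLE (a.preimage_mono k.2.2)) (fun x hx => ?_) _ _ fun k => ?_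
    · obtain ⟨k, hk⟩ := hV (a x) hx
      exact Opens.mem_iSup.2 ⟨k, hk⟩
    · refine Eq.trans ?_ (hsa k)
      show (a.app V ≫ X.presheaf.map (homOfLE (a.preimage_mono k.2.2)).op) s = _
      rw [show sf k = P'.presheaf.map (homOfLE k.2.2).op s from (hs k).symm, ← CommRingCat.comp_apply, a.naturality]
      rfl
  · refine TopCat.Sheaf.eq_of_locally_eq' Y.sheaf (fun k : K => b ⁻¹ᵁ k.1) (b ⁻¹ᵁ V)
      (fun k => homOfLE (b.preimage_mono k.2.2)) (fun x hx => ?_) _ _ fun k => ?_
    · obtain ⟨k, hk⟩ := hV (b x) hx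
      exact Opens.mem_iSup.2 ⟨k, hk⟩
    · refine Eq.trans ?_ (hsb k)
      show (b.app V ≫ Y.presheaf.map (homOfLE (b.preimage_mono k.2.2)).op) s = _
      rw [show sf k = P'.presheaf.map (homOfLE k.2.2).op s from (hs k).symm, ← CommRingCat.comp_apply, b.naturality]
      rfl

include H hP in
/-- A Ferrand pushout is a pushout of ringed spaces. -/
theorem isPushout_toRS : IsPushout (toRS.map i) (toRS.map j) (toRS.map a) (toRS.map b) := by
  haveI := isAffineHom_inl H hP
  haveI := isClosedImmersion_inr H hP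
  have hcov := jointly_surjective' H hP
  have hw : toRS.map i ≫ toRS.map a = toRS.map j ≫ toRS.map b := by
    rw [← Functor.map_comp, ← Functor.map_comp, hP.w]
  refine ⟨⟨hw⟩, ⟨PushoutCocone.isColimitAux' _ fun s => ?_⟩⟩
  let φ := s.inl
  let ψ := s.inr
  have hc : toRS.map i ≫ φ = toRS.map j ≫ ψ := s.condition
  have hpt : ∀ z : Z, φ.hom.base (i z) = ψ.hom.base (j z) := fun z =>
    congrArg (fun f : toRS.obj Z ⟶ s.pt => f.hom.base z) hc
  have hAA : ∀ x x' : X, a x = a x' → φ.hom.base x = φ.hom.base x' := by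
    intro x x' h
    by_cases hx : x ∈ Set.range i
    · obtain ⟨z, rfl⟩ := hx
      have h' : a x' = b (j z) := by rw [← h, ← Scheme.Hom.comp_apply, hP.w, Scheme.Hom.comp_apply]
      obtain ⟨z', rfl, hz'⟩ := exists_of_eq H hP h'
      rw [hpt, hpt, hz']
    · rw [eq_of_eq H hP hx h]
  have hAB : ∀ (x : X) (y : Y), a x = b y → φ.hom.base x = ψ.hom.base y := by
    intro x y h
    obtain ⟨z, rfl, rfl⟩ := exists_of_eq H hP h
    exact hpt z
  classical
  let h₀ : P' → s.pt := fun p =>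
    if hp : ∃ x, a x = p then φ.hom.base hp.choose else ψ.hom.base ((hcov p).resolve_left hp).choose
  have h₀a : ∀ x, h₀ (a x) = φ.hom.base x := fun x => by
    have hp : ∃ x', a x' = a x := ⟨x, rfl⟩
    simp only [h₀, dif_pos hp]
    exact hAA _ _ hp.choose_spec
  have h₀b : ∀ y, h₀ (b y) = ψ.hom.base y := fun y => by
    by_cases hp : ∃ x, a x = b y
    · simp only [h₀, dif_pos hp]
      exact hAB _ _ hp.choose_spec
    · simp only [h₀, dif_neg hp]
      exact congrArg ψ.hom.base (b.isClosedEmbedding.injective ((hcov (b y)).resolve_left hp).choose_spec)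
  have hcont : Continuous h₀ := ⟨fun O hO => isOpen_of_preimage H hP
    (by
      rw [show a ⁻¹' (h₀ ⁻¹' O) = φ.hom.base ⁻¹' O from Set.ext fun x => by simp [h₀a]; rfl]
      exact hO.preimage φ.hom.base.hom.continuous)
    (by
      rw [show b ⁻¹' (h₀ ⁻¹' O) = ψ.hom.base ⁻¹' O from Set.ext fun y => by simp [h₀b]; rfl]
      exact hO.preimage ψ.hom.base.hom.continuous)⟩
  let hb : ((toRS.obj P').carrier : TopCat) ⟶ s.pt.carrier := TopCat.ofHom ⟨h₀, hcont⟩
  let O : Opens s.pt → P'.Opens := fun U => (Opens.map hb).obj U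
  have hOa : ∀ U, a ⁻¹ᵁ O U ≤ (Opens.map φ.hom.base).obj U := fun U x hx => by
    show φ.hom.base x ∈ U
    rw [← h₀a]; exact hx
  have hOb : ∀ U, b ⁻¹ᵁ O U ≤ (Opens.map ψ.hom.base).obj U := fun U y hy => by
    show ψ.hom.base y ∈ U
    rw [← h₀b]; exact hy
  have hex : ∀ (U : Opens s.pt) (t : s.pt.presheaf.obj (op U)), ∃ r : Γ(P', O U),
      a.app (O U) r = secMap φ U (a ⁻¹ᵁ O U) (hOa U) t ∧ b.app (O U) r = secMap ψ U (b ⁻¹ᵁ O U) (hOb U) t := by
    intro U t
    refine (fibAt_all H hP (O U)).2 _ _ ?_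
    exact ((secMap_comp_apply (toRS.map i) φ U _ _ (hOa U) le_rfl t).trans (secMap_congr_apply hc U _ _ _ t)).trans
      (secMap_comp_apply (toRS.map j) ψ U _ _ (hOb U) (preimage_le hP.w _).le t).symm
  choose r hra hrb using hex
  have inj : ∀ (V : P'.Opens) (s t : Γ(P', V)), a.app V s = a.app V t → b.app V s = b.app V t → s = t :=
    fun V => (fibAt_all H hP V).1
  let c₀ : ∀ U : Opens s.pt, s.pt.presheaf.obj (op U) →+* Γ(P', O U) := fun U =>
    { toFun := r U
      map_one' := inj _ _ _ (by rw [hra, map_one, map_one]; rfl) (by rw [hrb, map_one, map_one]; rfl)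
      map_mul' := fun x y => inj _ _ _ (by rw [hra, map_mul, map_mul, hra, hra]; rfl) (by rw [hrb, map_mul, map_mul, hrb, hrb]; rfl)
      map_zero' := inj _ _ _ (by rw [hra, map_zero, map_zero]; rfl) (by rw [hrb, map_zero, map_zero]; rfl)
      map_add' := fun x y => inj _ _ _ (by rw [hra, map_add, map_add, hra, hra]; rfl) (by rw [hrb, map_add, map_add, hrb, hrb]; rfl) }
  let cc : s.pt.presheaf ⟶ (TopCat.Presheaf.pushforward CommRingCat hb).obj P'.presheaf :=
    { app := fun U => CommRingCat.ofHom (c₀ U.unop)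
      naturality := fun U U' f => by
        refine CommRingCat.hom_ext (RingHom.ext fun t => ?_)
        have hle : U'.unop ≤ U.unop := leOfHom f.unop
        have hO : O U'.unop ≤ O U.unop := fun p hp => hle hp
        show r U'.unop (s.pt.presheaf.map (homOfLE hle).op t) = P'.presheaf.map (homOfLE hO).op (r U.unop t)
        refine inj _ _ _ ?_ ?_
        · refine (hra _ _).trans ((res_secMap_apply φ hle (a.preimage_mono hO) (hOa U.unop) (hOa U'.unop) t).trans ?_)
          rw [← CommRingCat.comp_apply (P'.presheaf.map _), a.naturality, CommRingCat.comp_apply (a.app _), hra]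
          rfl
        · refine (hrb _ _).trans ((res_secMap_apply ψ hle (b.preimage_mono hO) (hOb U.unop) (hOb U'.unop) t).trans ?_)
          rw [← CommRingCat.comp_apply (P'.presheaf.map _), b.naturality, CommRingCat.comp_apply (b.app _), hrb]
          rfl }
  let m : toRS.obj P' ⟶ s.pt := InducedCategory.homMk ⟨hb, cc⟩
  refine ⟨m, ?_, ?_, fun {m'} h₁ h₂ => ?_⟩
  · have hbase : (toRS.map a ≫ m).hom.base = φ.hom.base :=
      TopCat.hom_ext (ContinuousMap.ext fun x => h₀a x)
    refine hom_ext_secMap _ _ hbase fun U => ?_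
    refine CommRingCat.hom_ext (RingHom.ext fun t => ?_)
    refine ((secMap_comp_apply (toRS.map a) m U (O U) _ le_rfl le_rfl t).symm.trans ?_)
    show (secMap (toRS.map a) (O U) (a ⁻¹ᵁ O U) le_rfl) (secMap m U (O U) le_rfl t) = _
    exact (congr($(secMap_self (toRS.map a) (O U)) _)).trans
      ((congrArg (a.app (O U)) congr($(secMap_self m U) t)).trans (hra U t))
  · have hbase : (toRS.map b ≫ m).hom.base = ψ.hom.base :=
      TopCat.hom_ext (ContinuousMap.ext fun x => h₀b x)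
    refine hom_ext_secMap _ _ hbase fun U => ?_
    refine CommRingCat.hom_ext (RingHom.ext fun t => ?_)
    refine ((secMap_comp_apply (toRS.map b) m U (O U) _ le_rfl le_rfl t).symm.trans ?_)
    show (secMap (toRS.map b) (O U) (b ⁻¹ᵁ O U) le_rfl) (secMap m U (O U) le_rfl t) = _
    exact (congr($(secMap_self (toRS.map b) (O U)) _)).trans
      ((congrArg (b.app (O U)) congr($(secMap_self m U) t)).trans (hrb U t))
  · have h₁' : toRS.map a ≫ m' = φ := h₁
    have h₂' : toRS.map b ≫ m' = ψ := h₂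
    have hbase : m.hom.base = m'.hom.base := TopCat.hom_ext (ContinuousMap.ext fun p => by
      rcases hcov p with ⟨x, rfl⟩ | ⟨y, rfl⟩
      · exact (h₀a x).trans (congrArg (fun f : toRS.obj X ⟶ s.pt => f.hom.base x) h₁').symm
      · exact (h₀b y).trans (congrArg (fun f : toRS.obj Y ⟶ s.pt => f.hom.base y) h₂').symm)
    refine (hom_ext_secMap m m' hbase fun U => CommRingCat.hom_ext (RingHom.ext fun t => ?_)).symm
    rw [secMap_self]
    refine inj (O U) _ _ ((hra U t).trans ?_) ((hrb U t).trans ?_)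
    · refine (secMap_congr_apply h₁' U _ ?_ (hOa U) t).symm.trans
        (secMap_comp_apply (toRS.map a) m' U (O U) (a ⁻¹ᵁ O U) (hbase ▸ le_rfl) le_rfl t).symm |>.trans ?_
      · intro x hx
        exact (congrArg (fun φb : (toRS.obj P').carrier ⟶ s.pt.carrier => (Opens.map φb).obj U) hbase).le hx
      · exact congr($(secMap_self (toRS.map a) (O U)) _)
    · refine (secMap_congr_apply h₂' U _ ?_ (hOb U) t).symm.trans
        (secMap_comp_apply (toRS.map b) m' U (O U) (b ⁻¹ᵁ O U) (hbase ▸ le_rfl) le_rfl t).symm |>.trans ?_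
      · intro x hx
        exact (congrArg (fun φb : (toRS.obj P').carrier ⟶ s.pt.carrier => (Opens.map φb).obj U) hbase).le hx
      · exact congr($(secMap_self (toRS.map b) (O U)) _)

/-- A square which is a pushout of ringed spaces, with affine legs, is a pushout of schemes. -/
theorem isPushout_of_toRS {X Y Z P' : Scheme.{u}} {i : Z ⟶ X} {j : Z ⟶ Y} [IsClosedImmersion i]
    {a : X ⟶ P'} {b : Y ⟶ P'} [IsAffineHom a] [IsAffineHom b]
    (hP : IsPushout (toRS.map i) (toRS.map j) (toRS.map a) (toRS.map b)) : IsPushout i j a b := by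
  have w : i ≫ a = j ≫ b := toRS.map_injective (by rw [Functor.map_comp, Functor.map_comp]; exact hP.w)
  have H := hasPairs_of_cover w
  have h0 := Groth.Agent.Pinch2.isPushout H
  let m := h0.desc a b w
  have h1 := isPushout_toRS H h0
  haveI : IsIso (toRS.map m) := by
    have e : toRS.map m = (h1.isoIsPushout _ _ hP).hom := h1.hom_ext
      (by rw [IsPushout.inl_isoIsPushout_hom, ← Functor.map_comp, h0.inl_desc])
      (by rw [IsPushout.inr_isoIsPushout_hom, ← Functor.map_comp, h0.inr_desc])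
    rw [e]; infer_instance
  haveI : IsIso m := isIso_of_reflects_iso m toRS
  exact IsPushout.of_iso h0 (Iso.refl _) (Iso.refl _) (Iso.refl _) (asIso m) (by simp) (by simp)
    (by simp [m]) (by simp [m])

end Groth.Agent.Pinch2
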